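import Cfsg.Agent.Lib.Classical.FieldExtSymp.Transvection

/-!
# A transvection above the symplectic group of a plane over a quadratic extension
-/

set_option autoImplicit false
set_option linter.unusedSectionVars false

namespace CfsgLib.Classical.SpFourEven

open Module CfsgLib.Classical CfsgLib.Classical.FieldExtMax CfsgLib.Classical.FieldExtSymp

variable {F K V : Type*} [Field F] [Field K] [Algebra F K] [AddCommGroup V] [Module F V] [Module K V]
  [IsScalarTower F K V] [FiniteDimensional F K] [FiniteDimensional K V]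
  {B : V →ₗ[F] V →ₗ[F] F} {φ : V →ₗ[K] V →ₗ[K] K} {f₀ : K →ₗ[F] F} {M : Subgroup (V ≃ₗ[F] V)}

variable (h : Setting B φ f₀ M)
include h

theorem mem_line_of_phi_zero (hdim : finrank K V = 2) {a x : V} (ha : a ≠ 0) (hx : φ x a = 0) :
    x ∈ line F K a := by
  obtain ⟨v, hv⟩ := alt_exists_partner h.nondegK.1 ha
  have hva : φ v a = -1 := by rw [alt_swap h.altK, hv]
  have htop : Submodule.span K ({a, v} : Set V) = ⊤ :=
    Submodule.eq_top_of_finrank_eq (by rw [finrank_pair h.altK hv, hdim])
  obtain ⟨s, t, e⟩ := Submodule.mem_span_pair.1 (htop ▸ Submodule.mem_top : x ∈ Submodule.span K ({a, v} : Set V))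
  rw [← e] at hx ⊢
  simp only [map_add, map_smul, LinearMap.add_apply, LinearMap.smul_apply, h.altK a, hva, smul_eq_mul, mul_zero,
    zero_add, mul_neg, mul_one, neg_eq_zero] at hx
  rw [hx, zero_smul, add_zero]
  exact smul_mem_line a s

/-- Above the symplectic group of a plane over a quadratic extension there is a transvection. -/
theorem exists_transvection (h2 : (2 : F) = 0) (hq : ∃ μ : F, μ ≠ 0 ∧ μ ≠ 1) (hr : finrank F K = 2)
    (hdim : finrank K V = 2) {g : V ≃ₗ[F] V} (hg : g ∈ M) {a : V}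
    (hne : ∃ k : K, g (k • a) ∉ line F K (g a)) :
    ∃ z : V, z ≠ 0 ∧ ∃ c₀ : F, c₀ ≠ 0 ∧ Has M ((c₀ • B.flip z).smulRight z) := by
  haveI : FiniteDimensional F V := FiniteDimensional.trans F K V
  have h2K : (2 : K) = 0 := by simpa [map_ofNat] using congrArg (algebraMap F K) h2
  have hC : ∀ s t : V, B s t = B t s := fun s t => by
    rw [alt_swap h.alt]; linear_combination -(B t s) * h2
  have hCK : ∀ s t : V, φ s t = φ t s := fun s t => by
    rw [alt_swap h.altK]; linear_combination -(φ t s) * h2K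
  have hVV : ∀ v : V, v + v = 0 := fun v => by rw [← two_smul F v, h2, zero_smul]
  obtain ⟨k₀, hk₀⟩ := hne
  have ha : a ≠ 0 := by rintro rfl; simp at hk₀
  set z := g a with hz
  set q := g (k₀ • a) with hq'
  have hz0 : z ≠ 0 := fun e => ha (g.injective (e.trans (map_zero g).symm))
  have hspan : ∀ x ∈ line F K a, ∃ s s' : F, g x = s • z + s' • q := by
    have hle : Submodule.span F ({z, q} : Set V) ≤ (line F K a).map g.toLinearMap := by
      rw [Submodule.span_le, Set.insert_subset_iff, Set.singleton_subset_iff]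
      exact ⟨⟨a, self_mem_line a, rfl⟩, ⟨k₀ • a, smul_mem_line a k₀, rfl⟩⟩
    have hlt : finrank F (F ∙ z : Submodule F V) < finrank F ↥(Submodule.span F ({z, q} : Set V)) := by
      refine Submodule.finrank_lt_finrank_of_lt (lt_of_le_of_ne (Submodule.span_mono (by simp)) fun e => hk₀ ?_)
      have hmem : q ∈ (F ∙ z : Submodule F V) := by rw [e]; exact Submodule.subset_span (by simp)
      obtain ⟨s, hs⟩ := Submodule.mem_span_singleton.1 hmem
      rw [← hs]
      exact Submodule.smul_mem _ s (self_mem_line z)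
    rw [finrank_span_singleton hz0] at hlt
    have heq := Submodule.eq_of_le_of_finrank_le hle (by
      rw [LinearEquiv.finrank_map_eq, finrank_line ha, hr]; omega)
    intro x hx
    have hmem : g x ∈ (line F K a).map g.toLinearMap := ⟨x, hx, rfl⟩
    rw [← heq] at hmem
    obtain ⟨s, s', e⟩ := Submodule.mem_span_pair.1 hmem
    exact ⟨s, s', e.symm⟩
  have hqz : B q z = 0 := by
    rw [hq', hz, h.isom g hg]
    exact h.line_isotropic (smul_mem_line a k₀) (self_mem_line a)
  -- a vector on the line of `z` outside the image of the line of `a`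
  obtain ⟨y, hy, hyz⟩ : ∃ y ∈ line F K z, y ∉ (F ∙ z : Submodule F V) := by
    by_contra hc
    push Not at hc
    have := Submodule.finrank_mono (show line F K z ≤ (F ∙ z : Submodule F V) from hc)
    rw [finrank_line hz0, finrank_span_singleton hz0, hr] at this
    omega
  have hyP : φ (g.symm y) a ≠ 0 := by
    intro h0
    obtain ⟨s, s', e⟩ := hspan _ (mem_line_of_phi_zero h hdim ha h0)
    rw [g.apply_symm_apply] at e
    by_cases hs' : s' = 0
    · exact hyz (Submodule.mem_span_singleton.2 ⟨s, by rw [e, hs', zero_smul, add_zero]⟩)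
    · refine hk₀ ?_
      have : q = s'⁻¹ • (y - s • z) := by rw [e, add_sub_cancel_left, smul_smul, inv_mul_cancel₀ hs', one_smul]
      rw [this]
      exact Submodule.smul_mem _ _ (sub_mem hy (Submodule.smul_mem _ _ (self_mem_line z)))
  have hyzB : B y z = 0 := h.line_isotropic hy (self_mem_line z)
  have hyq : B y q ≠ 0 := by
    intro h0
    refine hyP (h.phi_of_perp fun w hw => ?_)
    obtain ⟨s, s', e⟩ := hspan w hw
    rw [← h.isom g hg, g.apply_symm_apply, e]
    simp [hyzB, h0]
  -- conjugated transvections of `K`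
  let D : K → (V →ₗ[F] V) := fun k =>
    g.toLinearMap ∘ₗ (((k • φ.flip a).smulRight a).restrictScalars F) ∘ₗ g.symm.toLinearMap
  have hD : ∀ k x, D k x = g ((k * φ (g.symm x) a) • a) := fun k x => rfl
  have hDmem : ∀ k, Has M (D k) := fun k => by
    have h1 : Has M (((k • φ.flip a).smulRight a).restrictScalars F) :=
      ⟨_, h.sp (tv h.altK a k), fun x => by
        show (tv h.altK a k).1 x = _
        rw [tv_apply]
        rfl⟩
    exact h1.conj hg
  have hDs : ∀ k x w, B (D k x) w = B (D k w) x := by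
    intro k x w
    rw [hD, hD]
    conv_lhs => rw [← g.apply_symm_apply w]
    conv_rhs => rw [← g.apply_symm_apply x]
    rw [h.isom g hg, h.isom g hg]
    simp only [h.eq, map_smul, LinearMap.smul_apply, hCK a, smul_eq_mul, g.apply_symm_apply]
    congr 1
    ring
  have hDz : ∀ k, D k z = 0 := fun k => by rw [hD, hz, g.symm_apply_apply, h.altK a]; simp
  have hDq : ∀ k, D k q = 0 := fun k => by
    rw [hD, hq', g.symm_apply_apply, show φ (k₀ • a) a = 0 by simp [h.altK a]]; simp
  set μ := φ (g.symm y) a with hμ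
  have hDy : ∀ k : K, D (k * μ⁻¹) y = g (k • a) := fun k => by
    rw [hD, ← hμ, inv_mul_cancel_right₀ hyP]
  -- the transvection along the line of `z`
  have hqzφ : φ q z ≠ 0 := fun h0 => hk₀ (mem_line_of_phi_zero h hdim hz0 h0)
  let C : K → (V →ₗ[F] V) := fun l => ((l • φ.flip z).smulRight z).restrictScalars F
  have hCx : ∀ l x, C l x = (l * φ x z) • z := fun l x => rfl
  have hCmem : ∀ l, Has M (C l) := fun l => ⟨_, h.sp (tv h.altK z l), fun x => by
    show (tv h.altK z l).1 x = _
    rw [tv_apply]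
    rfl⟩
  have hCs : ∀ l x w, B (C l x) w = B (C l w) x := by
    intro l x w
    simp only [hCx, h.eq, map_smul, LinearMap.smul_apply, hCK z, smul_eq_mul]
    congr 1
    ring
  have hCz : ∀ l, C l z = 0 := fun l => by rw [hCx, h.altK z]; simp
  have hCy : ∀ l, C l y = 0 := fun l => by
    obtain ⟨k, rfl⟩ := mem_line.1 hy
    rw [hCx, map_smul, LinearMap.smul_apply, h.altK z]; simp
  have hCC : ∀ l x, C l (C l x) = 0 := fun l x => by
    rw [hCx l x]
    rw [hCx, map_smul, LinearMap.smul_apply, h.altK z]; simp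
  -- the three elements
  set A := D (k₀ * μ⁻¹) with hA'
  set E := D μ⁻¹ with hE'
  set C₁ := C (φ q z)⁻¹ with hC'
  have hAy : A y = q := by rw [hA', hDy]
  have hEy : E y = z := by rw [hE', ← one_mul μ⁻¹, hDy, one_smul]
  have hCq : C₁ q = z := by rw [hC', hCx, inv_mul_cancel₀ hqzφ, one_smul]
  obtain ⟨f, hf⟩ : ∃ f, B z f = 1 := alt_exists_partner h.nondeg.1 hz0
  have hfz : B f z = 1 := by rw [hC, hf]
  -- a functional describing `C₁`
  set δ := B y q with hδ
  have hspanW : ∀ x, B x z = 0 → B x q = 0 → B x y = 0 → ∃ s : F, x = s • z := by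
    intro x hxz hxq hxy
    have h0 : φ (g.symm x) a = 0 := h.phi_of_perp fun w hw => by
      obtain ⟨s, s', e⟩ := hspan w hw
      rw [← h.isom g hg, g.apply_symm_apply, e]
      simp [hxz, hxq]
    obtain ⟨s, s', e⟩ := hspan _ (mem_line_of_phi_zero h hdim ha h0)
    rw [g.apply_symm_apply] at e
    have hs' : s' = 0 := by
      rw [e, map_add, LinearMap.add_apply, map_smul, LinearMap.smul_apply, map_smul, LinearMap.smul_apply,
        hC z y, hyzB, hC q y, smul_zero, zero_add, smul_eq_mul] at hxy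
      exact (mul_eq_zero.1 hxy).resolve_right hyq
    exact ⟨s, by rw [e, hs', zero_smul, add_zero]⟩
  have hCf : ∃ s s' : F, C₁ f = s • z + s' • y ∧ s' * δ = 1 := by
    have hperp : ∀ w, w ∈ line F K z → w ∈ Submodule.span F ({z, y} : Set V) := by
      have hle : Submodule.span F ({z, y} : Set V) ≤ line F K z := by
        rw [Submodule.span_le, Set.insert_subset_iff, Set.singleton_subset_iff]
        exact ⟨self_mem_line z, hy⟩
      have hlt : finrank F (F ∙ z : Submodule F V) < finrank F ↥(Submodule.span F ({z, y} : Set V)) :=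
        Submodule.finrank_lt_finrank_of_lt (lt_of_le_of_ne (Submodule.span_mono (by simp)) fun e =>
          hyz (e ▸ Submodule.subset_span (by simp)))
      rw [finrank_span_singleton hz0] at hlt
      have heq := Submodule.eq_of_le_of_finrank_le hle (by rw [finrank_line hz0, hr]; omega)
      intro w hw
      rwa [heq]
    obtain ⟨s, s', e⟩ := Submodule.mem_span_pair.1 (hperp _ (show C₁ f ∈ line F K z from smul_mem_line z _))
    refine ⟨s, s', e.symm, ?_⟩
    have h1 := hCs (φ q z)⁻¹ f q
    rw [← hC', hCq, ← e, hC z f, hfz] at h1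
    simp only [map_add, map_smul, LinearMap.add_apply, LinearMap.smul_apply, hC z q, hqz, smul_eq_mul, mul_zero,
      zero_add, ← hδ] at h1
    exact h1
  obtain ⟨c₁, c₂, hc, hc₂⟩ := hCf
  have hδ0 : δ ≠ 0 := hyq
  set κ := B (E f) f with hκ
  -- choose the scale
  obtain ⟨t, ht0, ht1⟩ : ∃ t : F, t ≠ 0 ∧ t * c₂ + κ ≠ 0 := by
    by_cases h1 : c₂ + κ = 0
    · obtain ⟨μ', hμ0, hμ1⟩ := hq
      refine ⟨μ', hμ0, fun h3 => ?_⟩
      have : (μ' - 1) * c₂ = 0 := by linear_combination h3 - h1
      rcases mul_eq_zero.1 this with h4 | h4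
      · exact hμ1 (sub_eq_zero.1 h4)
      · rw [h4, zero_mul] at hc₂; exact zero_ne_one hc₂
    · exact ⟨1, one_ne_zero, by rwa [one_mul]⟩
  -- the commutator
  have hA2 : ∀ x, A (A x) = 0 := fun x => by
    rw [hA', hD _ x, hD, g.symm_apply_apply, show ∀ k : K, φ (k • a) a = 0 from fun k => by simp [h.altK a]]
    simp
  set Ct := C (t • (φ q z)⁻¹) with hCt
  have hCtx : ∀ x, Ct x = t • C₁ x := fun x => by
    rw [hCt, hC', hCx, hCx, smul_mul_assoc, smul_assoc]
  set Et := D (t • μ⁻¹) with hEt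
  have hEtx : ∀ x, Et x = t • E x := fun x => by
    rw [hEt, hE', hD, hD, smul_mul_assoc, smul_assoc, map_smul]
  have hAP : ∀ x, ∃ s s' : F, A x = s • z + s' • q := fun x => hspan _ (smul_mem_line a _)
  have hAA : ∀ x w, B (A x) (A w) = 0 := fun x w => by
    obtain ⟨s, s', e⟩ := hAP x
    obtain ⟨u, u', e'⟩ := hAP w
    rw [e, e']
    simp [h.alt z, h.alt q, hC z q, hqz]
  have hACA : ∀ x, A (C₁ (A x)) = 0 := fun x => by
    obtain ⟨s, s', e⟩ := hAP x
    rw [e, map_add, map_smul, map_smul, show C₁ z = 0 from hCz _, hCq, smul_zero, zero_add, map_smul,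
      show A z = 0 from hDz _, smul_zero]
  have hC₁C₁ : ∀ x, C₁ (C₁ x) = 0 := hCC _
  let T : V →ₗ[F] V := t • (C₁ ∘ₗ A) + t • (A ∘ₗ C₁) + (t * t) • (C₁ ∘ₗ A ∘ₗ C₁) + Et
  have hT : Has M T := by
    obtain ⟨eA, heA, hA1⟩ := hDmem (k₀ * μ⁻¹)
    obtain ⟨eC, heC, hC1⟩ := hCmem (t • (φ q z)⁻¹)
    obtain ⟨eE, heE, hE1⟩ := hDmem (t • μ⁻¹)
    refine ⟨eE * (eC * eA * eC * eA), mul_mem heE (mul_mem (mul_mem (mul_mem heC heA) heC) heA), fun x => ?_⟩
    rw [← hA'] at hA1
    rw [← hCt] at hC1
    rw [← hEt] at hE1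
    simp only [LinearEquiv.mul_apply, hA1, hC1, hE1, hCtx, hEtx, map_add, map_smul, hA2, hACA, hC₁C₁,
      smul_zero, add_zero, zero_add, smul_add, smul_smul, T, LinearMap.add_apply, LinearMap.smul_apply,
      LinearMap.comp_apply]
    have hEA : E (A x) = 0 := by
      obtain ⟨s, s', e⟩ := hAP x
      rw [e, map_add, map_smul, map_smul, show E z = 0 from hDz _, show E q = 0 from hDq _]; simp
    have hEC : ∀ w, E (C₁ (A w)) = 0 := fun w => by
      obtain ⟨s, s', e⟩ := hAP w
      rw [e, map_add, map_smul, map_smul, show C₁ z = 0 from hCz _, hCq, smul_zero, zero_add, map_smul,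
        show E z = 0 from hDz _, smul_zero]
    have hEAC : E (A (C₁ x)) = 0 := by
      obtain ⟨s, s', e⟩ := hAP (C₁ x)
      rw [e, map_add, map_smul, map_smul, show E z = 0 from hDz _, show E q = 0 from hDq _]; simp
    simp only [hEA, hEC, hEAC, smul_zero, add_zero]
    linear_combination (norm := module) hVV (A x) + hVV (t • C₁ x) + hVV (t • C₁ (A x)) + hVV ((t * t) • E (C₁ x))
  have hTs : ∀ x w, B (T x) w = B (T w) x := by
    intro x w
    have e1 : ∀ x w, B (C₁ (A x)) w = B (A (C₁ w)) x := fun x w => by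
      rw [hCs _ (A x) w, hC (C₁ w), hDs _ x, hC]
    have e2 : B (C₁ (A (C₁ x))) w = B (C₁ (A (C₁ w))) x := by
      calc B (C₁ (A (C₁ x))) w = B (C₁ w) (A (C₁ x)) := hCs _ _ _
        _ = B (A (C₁ x)) (C₁ w) := hC _ _
        _ = B (A (C₁ w)) (C₁ x) := hDs _ _ _
        _ = B (C₁ x) (A (C₁ w)) := hC _ _
        _ = B (C₁ (A (C₁ w))) x := (hCs _ _ _).symm
    simp only [T, map_add, map_smul, LinearMap.add_apply, LinearMap.smul_apply, LinearMap.comp_apply,
      smul_eq_mul, e1 x w, ← e1 w x, e2, hEtx]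
    rw [show B (E x) w = B (E w) x from hDs _ x w]
    ring
  have hTz : T z = 0 := by
    simp [T, hEtx, show A z = 0 from hDz _, show C₁ z = 0 from hCz _, show E z = 0 from hDz _]
  have hTq : T q = 0 := by
    simp [T, hEtx, show A q = 0 from hDq _, hCq, show A z = 0 from hDz _, show E q = 0 from hDq _]
  have hTy : T y = 0 := by
    simp only [T, LinearMap.add_apply, LinearMap.smul_apply, LinearMap.comp_apply, hAy, hCq,
      show C₁ y = 0 from hCy _, map_zero, smul_zero, add_zero, hEtx, hEy]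
    exact hVV _
  -- the shape of `T`
  have hTx : ∀ x, ∃ s : F, T x = s • z := fun x => hspanW _ (by rw [hTs, hTz]; simp) (by rw [hTs, hTq]; simp)
    (by rw [hTs, hTy]; simp)
  have hTc : ∀ x, T x = (B (T f) f * B x z) • z := fun x => by
    obtain ⟨s, hs⟩ := hTx x
    obtain ⟨u, hu⟩ := hTx f
    have h1 := hTs x f
    rw [hs, hu, map_smul, LinearMap.smul_apply, map_smul, LinearMap.smul_apply, hf, hC z x, smul_eq_mul,
      smul_eq_mul, mul_one] at h1
    rw [hs, h1, hu]
    simp [hf]
  have hval : B (T f) f = t * (t * c₂ + κ) := by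
    have e1 : B (C₁ (A f)) f = B (A (C₁ f)) f := by
      rw [hCs _ (A f) f, hC, hDs _ f (C₁ f)]
    have e2 : B (C₁ (A (C₁ f))) f = c₂ := by
      have hACf : A (C₁ f) = c₂ • q := by
        rw [hc, map_add, map_smul, map_smul, show A z = 0 from hDz _, hAy, smul_zero, zero_add]
      rw [hCs _ (A (C₁ f)) f, hACf, hc]
      simp only [map_add, map_smul, LinearMap.add_apply, LinearMap.smul_apply, hC z q, hqz, ← hδ, smul_eq_mul,
        mul_zero, zero_add]
      linear_combination c₂ * hc₂
    simp only [T, map_add, map_smul, LinearMap.add_apply, LinearMap.smul_apply, LinearMap.comp_apply, hEtx,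
      smul_eq_mul, e1, e2, ← hκ]
    linear_combination (t * B (A (C₁ f)) f) * h2
  refine ⟨z, hz0, t * (t * c₂ + κ), mul_ne_zero ht0 ht1, hT.congr fun x => ?_⟩
  rw [hTc, hval, LinearMap.smulRight_apply, LinearMap.smul_apply, LinearMap.flip_apply, smul_eq_mul]

/-- A transvection along one vector gives all of them. -/
theorem all_of_transvection [Finite F] (h2 : (2 : F) = 0) {z : V} (hz : z ≠ 0) {c₀ : F} (hc₀ : c₀ ≠ 0)
    (hT : Has M ((c₀ • B.flip z).smulRight z)) (v : V) (c : F) : Has M ((c • B.flip v).smulRight v) := by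
  haveI : CharP F 2 := CharTwo.of_one_ne_zero_of_two_eq_zero one_ne_zero h2
  haveI : Fintype F := Fintype.ofFinite F
  obtain ⟨s, hs⟩ := FiniteField.isSquare_of_char_two (ringChar.eq F 2) (c / c₀)
  by_cases h0 : s • v = 0
  · refine Has.zero.congr fun x => ?_
    rcases smul_eq_zero.1 h0 with rfl | rfl
    · rw [mul_zero, div_eq_zero_iff] at hs
      simp [hs.resolve_right hc₀]
    · simp
  obtain ⟨e, -, he⟩ := tv_transitive h.altK h.nondegK.1 hz h0
  refine (hT.conj (h.sp e)).congr fun x => ?_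
  obtain ⟨y, rfl⟩ := (e.1.restrictScalars F).surjective x
  have he' : (e.1.restrictScalars F) z = s • v := he
  simp only [LinearMap.comp_apply, LinearEquiv.coe_coe, LinearEquiv.symm_apply_apply, LinearMap.smulRight_apply,
    LinearMap.smul_apply, LinearMap.flip_apply, smul_eq_mul]
  rw [← h.isom _ (h.sp e) y z, (e.1.restrictScalars F).map_smul, he', map_smul, smul_eq_mul, smul_smul,
    eq_comm]
  rw [div_eq_iff hc₀] at hs
  rw [hs]
  congr 1
  ring

end CfsgLib.Classical.SpFourEven
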