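import Cfsg.Agent.Lib.Classical.SympOrthMax

/-!
# Orthogonal groups inside symplectic groups in characteristic two, in dimension at least four
-/

set_option autoImplicit false
set_option linter.unusedSectionVars false

open Module

namespace CfsgLib.Classical.SpFourEven

variable {F : Type*} [Field F] [CharP F 2] [Finite F] {V : Type*} [AddCommGroup V] [Module F V]
  [FiniteDimensional F V] {B : V →ₗ[F] V →ₗ[F] F}

theorem add_self_zero {F V : Type*} [Field F] [CharP F 2] [AddCommGroup V] [Module F V] (v : V) :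
    v + v = 0 := by
  rw [← two_smul F v, CharTwo.two_eq_zero, zero_smul]

theorem alt_comm (hA : B.IsAlt) (x y : V) : B x y = B y x := by
  rw [alt_swap hA, CharTwo.neg_eq]

/-- Perpendicular to a pair of vectors every value of `Q` is taken. -/
theorem exists_value_two {Q : V → F} (hA : B.IsAlt) (hN : B.Nondegenerate) (hQ : QuadOf B Q)
    (hn : 4 ≤ finrank F V) {u x : V} (hux : B u x ≠ 0) (μ : F) :
    ∃ z, B u z = 0 ∧ B x z = 0 ∧ Q z = μ := by
  obtain ⟨z₀, hu0, hx0, hQ0⟩ : ∃ z, B u z = 0 ∧ B x z = 0 ∧ Q z ≠ 0 := by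
    by_contra hc
    push Not at hc
    set U : Submodule F V := Submodule.span F {u, x}
    have hU : ∀ z, z ∈ perp B U → B u z = 0 ∧ B x z = 0 := fun z hz =>
      ⟨mem_perp.1 hz u (Submodule.subset_span (by simp)), mem_perp.1 hz x (Submodule.subset_span (by simp))⟩
    obtain ⟨⟨w, hw⟩, hw0⟩ := finrank_pos_iff_exists_ne_zero.1 (show 0 < finrank F (perp B U) by
      rw [finrank_perp_eq hA hN]
      have : finrank F U ≤ 2 := by
        classical
        have hU' : U = Submodule.span F (({u, x} : Finset V) : Set V) := by simp [U]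
        rw [hU']
        exact (finrank_span_finset_le_card _).trans Finset.card_le_two
      omega)
    obtain ⟨y, hy⟩ := alt_exists_partner hN.1 (fun h => hw0 (Subtype.ext h) : w ≠ 0)
    have hxu : B x u ≠ 0 := by rwa [alt_comm hA]
    set y' := y + (B u y / B u x) • x + (B x y / B x u) • u with hy'
    have h1 : B u y' = 0 := by
      simp only [hy', map_add, map_smul, hA u, smul_eq_mul, mul_zero, add_zero]
      rw [div_mul_cancel₀ _ hux, CharTwo.add_self_eq_zero]
    have h2 : B x y' = 0 := by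
      simp only [hy', map_add, map_smul, hA x, smul_eq_mul, mul_zero, add_zero]
      rw [div_mul_cancel₀ _ hxu, CharTwo.add_self_eq_zero]
    have h3 : B w y' = 1 := by
      simp only [hy', map_add, map_smul, hy, alt_comm hA w x, alt_comm hA w u, (hU w hw).1, (hU w hw).2,
        smul_eq_mul, mul_zero, add_zero]
    have h4 := hQ.add w y'
    rw [hc w (hU w hw).1 (hU w hw).2, hc y' h1 h2,
      hc (w + y') (by simp [(hU w hw).1, h1]) (by simp [(hU w hw).2, h2]), h3] at h4
    simp at h4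
  obtain ⟨r, hr⟩ := exists_sq_root (μ / Q z₀)
  exact ⟨r • z₀, by simp [hu0], by simp [hx0], by rw [hQ.smul, hr, div_mul_cancel₀ _ hQ0]⟩

/-- Isometries of `Q` are transitive on non-zero vectors of equal value. -/
theorem quadStab_transitive (hA : B.IsAlt) (hN : B.Nondegenerate) {Q : V → F} (hQ : QuadOf B Q)
    (h4 : ∃ μ : F, μ ≠ 0 ∧ μ ≠ 1) {a b : V} (ha : a ≠ 0) (hb : b ≠ 0) (h : Q a = Q b) :
    ∃ g ∈ quadStab B Q, g.1 a = b := by
  classical
  have key : ∀ x y : V, Q x = Q y → B x y ≠ 0 → ∃ g ∈ quadStab B Q, g.1 x = y := by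
    intro x y hxy hB
    refine ⟨tv hA (x + y) (B x y)⁻¹, tv_mem_quadStab hA hQ ?_, ?_⟩
    · rw [hQ.add, hxy, CharTwo.add_self_eq_zero, zero_add, inv_mul_cancel₀ hB]
    · rw [tv_apply, map_add, hA x, zero_add, inv_mul_cancel₀ hB, one_smul, ← add_assoc, add_self_zero (F := F), zero_add]
  by_cases hab : B a b = 0
  swap
  · exact key a b h hab
  by_cases heq : b = a
  · exact ⟨1, one_mem _, heq.symm⟩
  suffices H : ∃ x, Q x = Q a ∧ B a x ≠ 0 ∧ B x b ≠ 0 by
    obtain ⟨x, hx, h1, h2⟩ := H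
    obtain ⟨g₁, hg₁, e₁⟩ := key a x hx.symm h1
    obtain ⟨g₂, hg₂, e₂⟩ := key x b (hx.trans h) h2
    exact ⟨g₂ * g₁, mul_mem hg₂ hg₁, by rw [Subgroup.coe_mul, LinearEquiv.mul_apply, e₁, e₂]⟩
  obtain ⟨μ, hμ0, hμ1⟩ := h4
  obtain ⟨x₁, hx₁⟩ := alt_exists_partner hN.1 ha
  by_cases hdep : b ∈ (F ∙ a : Submodule F V)
  · obtain ⟨r, rfl⟩ := Submodule.mem_span_singleton.1 hdep
    have hr : r ≠ 0 := fun e => hb (by rw [e, zero_smul])
    have hQa : Q a = 0 := by
      by_contra hQa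
      have hr2 : r * r = 1 := by
        rw [hQ.smul] at h
        exact mul_right_cancel₀ hQa (by linear_combination -h)
      have : (r + 1) * (r + 1) = 0 := by linear_combination hr2 + (r + 1) * (CharTwo.two_eq_zero (R := F))
      exact heq (by rw [CharTwo.add_eq_zero.1 (mul_self_eq_zero.1 this), one_smul])
    refine ⟨x₁ + Q x₁ • a, ?_, by simp [hx₁, hA a], by simp [hA a, alt_comm hA x₁ a, hx₁, hr]⟩
    rw [hQ.add, hQ.smul, hQa, mul_zero, add_zero, map_smul, smul_eq_mul, alt_comm hA x₁ a, hx₁, mul_one,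
      CharTwo.add_self_eq_zero]
  · -- independent vectors: choose the two pairings
    obtain ⟨z, hz0, hz1⟩ : ∃ z, B a z = 0 ∧ B b z = 1 := by
      obtain ⟨z, hz, hz'⟩ : ∃ z, B a z = 0 ∧ B b z ≠ 0 := by
        by_contra hc
        push Not at hc
        refine hdep ?_
        rw [← perp_perp_eq hA.isRefl hN.2 (F ∙ a)]
        refine mem_perp.2 fun w hw => ?_
        rw [alt_comm hA]
        exact hc w (mem_perp.1 hw a (Submodule.mem_span_singleton_self a))
      exact ⟨(B b z)⁻¹ • z, by simp [hz], by simp [hz']⟩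
    set x₀ := x₁ + (μ + B b x₁) • z with hx₀
    have e1 : B a x₀ = 1 := by simp [hx₀, hx₁, hz0]
    have e2 : B b x₀ = μ := by
      simp only [hx₀, map_add, map_smul, hz1, smul_eq_mul, mul_one]
      rw [add_left_comm, CharTwo.add_self_eq_zero, add_zero]
    have hμ' : 1 + μ ≠ 0 := fun e => hμ1 (CharTwo.add_eq_zero.1 e).symm
    set s := (Q a + Q x₀) / (1 + μ) with hs
    refine ⟨x₀ + s • (a + b), ?_, by simp [e1, hA a, hab], ?_⟩
    · rw [hQ.add, hQ.smul, hQ.add a b, ← h, hab, add_zero, CharTwo.add_self_eq_zero, mul_zero, add_zero,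
        map_smul, map_add, smul_eq_mul, alt_comm hA x₀ a, e1, alt_comm hA x₀ b, e2, hs,
        div_mul_cancel₀ _ hμ', add_left_comm, CharTwo.add_self_eq_zero, add_zero]
    · have : B (x₀ + s • (a + b)) b = μ := by simp [alt_comm hA x₀ b, e2, hA b, hab]
      rw [this]
      exact hμ0

/-- Isometries of `Q` are transitive on non-zero vectors of equal value, dimension at least six, any field. -/
theorem quadStab_transitive_six (hA : B.IsAlt) (hN : B.Nondegenerate) {Q : V → F} (hQ : QuadOf B Q)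
    (hn : 6 ≤ finrank F V) {a b : V} (ha : a ≠ 0) (hb : b ≠ 0) (h : Q a = Q b) :
    ∃ g ∈ quadStab B Q, g.1 a = b := by
  classical
  have key : ∀ x y : V, Q x = Q y → B x y ≠ 0 → ∃ g ∈ quadStab B Q, g.1 x = y := by
    intro x y hxy hB
    refine ⟨tv hA (x + y) (B x y)⁻¹, tv_mem_quadStab hA hQ ?_, ?_⟩
    · rw [hQ.add, hxy, CharTwo.add_self_eq_zero, zero_add, inv_mul_cancel₀ hB]
    · rw [tv_apply, map_add, hA x, zero_add, inv_mul_cancel₀ hB, one_smul, ← add_assoc, add_self_zero (F := F), zero_add]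
  by_cases hab : B a b = 0
  swap
  · exact key a b h hab
  obtain ⟨x₀, h1, h2⟩ : ∃ x, B a x ≠ 0 ∧ B b x ≠ 0 := by
    obtain ⟨y₁, h₁⟩ := alt_exists_partner hN.1 ha
    obtain ⟨y₂, h₂⟩ := alt_exists_partner hN.1 hb
    by_cases h₁' : B b y₁ = 0
    · by_cases h₂' : B a y₂ = 0
      · exact ⟨y₁ + y₂, by simp [h₁, h₂'], by simp [h₁', h₂]⟩
      · exact ⟨y₂, h₂', by simp [h₂]⟩
    · exact ⟨y₁, by simp [h₁], h₁'⟩
  set U : Submodule F V := Submodule.span F (({a, b, x₀} : Finset V) : Set V) with hU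
  have hmem : a ∈ U ∧ b ∈ U ∧ x₀ ∈ U :=
    ⟨Submodule.subset_span (by simp), Submodule.subset_span (by simp), Submodule.subset_span (by simp)⟩
  obtain ⟨z₀, hz₀, hQ₀⟩ : ∃ z ∈ perp B U, Q z ≠ 0 := by
    by_contra hc
    push Not at hc
    have hle : perp B U ≤ perp B (perp B U) := by
      intro x hx
      refine mem_perp.2 fun w hw => ?_
      have := hQ.add w x
      rwa [hc _ (add_mem hw hx), hc _ hw, hc _ hx, add_zero, zero_add, eq_comm] at this
    rw [perp_perp_eq hA.isRefl hN.2] at hle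
    have hk : finrank F U ≤ 3 := (finrank_span_finset_le_card _).trans Finset.card_le_three
    have hU' := finrank_perp_eq hA hN U
    have heq : perp B U = U := Submodule.eq_of_le_of_finrank_le hle (by omega)
    have hax : x₀ ∈ perp B U := heq.symm ▸ hmem.2.2
    exact h1 (mem_perp.1 hax a hmem.1)
  obtain ⟨r, hr⟩ := exists_sq_root ((Q a + Q x₀) / Q z₀)
  set z := r • z₀
  have hQz : Q z = Q a + Q x₀ := by rw [hQ.smul, hr, div_mul_cancel₀ _ hQ₀]
  have hz : ∀ s ∈ U, B s z = 0 := fun s hs => by rw [map_smul, mem_perp.1 hz₀ s hs, smul_zero]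
  have hx : Q (x₀ + z) = Q a := by
    rw [hQ.add, hQz, hz x₀ hmem.2.2, add_zero, add_left_comm, CharTwo.add_self_eq_zero, add_zero]
  obtain ⟨g₁, hg₁, e₁⟩ := key a (x₀ + z) hx.symm (by simp [hz a hmem.1, h1])
  obtain ⟨g₂, hg₂, e₂⟩ := key (x₀ + z) b (hx.trans h) (by
    intro h0
    have := hA.isRefl _ _ h0
    simp [hz b hmem.2.1, h2] at this)
  exact ⟨g₂ * g₁, mul_mem hg₂ hg₁, by rw [Subgroup.coe_mul, LinearEquiv.mul_apply, e₁, e₂]⟩

/-- The isometry group of `Q` is maximal in the symplectic group. -/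
theorem quadStab_maximal_of (hA : B.IsAlt) (hN : B.Nondegenerate) {Q : V → F} (hQ : QuadOf B Q)
    (hn : 4 ≤ finrank F V) (htr : ∀ a b : V, a ≠ 0 → b ≠ 0 → Q a = Q b → ∃ g ∈ quadStab B Q, g.1 a = b) {M : Subgroup (isomGroup B)}
    (hM : quadStab B Q ≤ M) {g : isomGroup B}
    (hg : g ∈ M) (hgQ : g ∉ quadStab B Q) : M = ⊤ := by
  classical
  have : Finite V := Module.finite_of_finite F
  have hD1 : ∀ w, Q w = 1 → tv hA w 1 ∈ M := fun w hw =>
    hM (tv_mem_quadStab hA hQ (by rw [one_mul, hw]))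
  have hmap : ∀ t ∈ M, ∀ w, tv hA w 1 ∈ M → tv hA (t.1 w) 1 ∈ M := fun t ht w hw => by
    rw [← conj_tv]
    exact M.mul_mem (M.mul_mem ht hw) (M.inv_mem ht)
  obtain ⟨w₀, hw₀, hw₀'⟩ : ∃ w, Q w = 1 ∧ Q (g.1 w) ≠ 1 := by
    by_contra hc
    push Not at hc
    have hne : ∀ v, Q v ≠ 0 → Q (g.1 v) = Q v := by
      intro v hv
      obtain ⟨r, hr⟩ := exists_sq_root (Q v)⁻¹
      have h := hc (r • v) (by rw [hQ.smul, hr, inv_mul_cancel₀ hv])
      rw [map_smul, hQ.smul, hr] at h
      exact (inv_mul_eq_one₀ hv).1 h |>.symm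
    refine hgQ fun v => ?_
    by_cases hv : Q v = 0
    · rw [hv]
      by_contra hgv
      obtain ⟨r, hr⟩ := exists_sq_root (Q (g.1 v))⁻¹
      let f : {w : V // Q w = 1} → {w : V // Q w = 1} := fun w => ⟨g.1 w.1, hc w.1 w.2⟩
      have hf : Function.Surjective f := Finite.surjective_of_injective fun x y hxy =>
        Subtype.ext (g.1.injective (congrArg Subtype.val hxy))
      obtain ⟨⟨w, hw⟩, hwe⟩ := hf ⟨r • g.1 v, by rw [hQ.smul, hr, inv_mul_cancel₀ hgv]⟩
      have : g.1 w = g.1 (r • v) := by rw [map_smul]; exact congrArg Subtype.val hwe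
      rw [g.1.injective this, hQ.smul, hv, mul_zero] at hw
      exact zero_ne_one hw
    · exact hne v hv
  set a := g.1 w₀ with ha_def
  have ha : a ≠ 0 := by
    rw [ha_def, Ne, map_eq_zero_iff _ g.1.injective]
    rintro rfl
    have h0 := hQ.smul 0 (0 : V)
    rw [zero_smul, hw₀] at h0
    simp at h0
  have hDa : tv hA a 1 ∈ M := hmap g hg w₀ (hD1 w₀ hw₀)
  have hall : ∀ v, v ≠ 0 → tv hA v 1 ∈ M := by
    intro v hv
    by_cases hv1 : Q v = 1
    · exact hD1 v hv1
    have hne : Q a + 1 ≠ 0 := fun h => hw₀' (by rw [eq_neg_of_add_eq_zero_left h, CharTwo.neg_eq])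
    obtain ⟨β, hβ⟩ := exists_sq_root ((Q v + 1) / (Q a + 1))
    have hβ0 : β ≠ 0 := by
      rintro rfl
      rw [zero_pow two_ne_zero, eq_comm, div_eq_zero_iff] at hβ
      rcases hβ with h | h
      · exact hv1 (by rw [eq_neg_of_add_eq_zero_left h, CharTwo.neg_eq])
      · exact hne h
    obtain ⟨y, hy⟩ := alt_exists_partner hN.1 ha
    obtain ⟨z, hza, hzy, hQz⟩ := exists_value_two hA hN hQ hn (u := a) (x := β • y)
      (by simp [hy, hβ0]) (1 + Q (β • y))
    set b := β • y + z with hb_def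
    have hQb : Q b = 1 := by
      rw [hb_def, hQ.add, hQz, hzy, add_zero, add_left_comm, CharTwo.add_self_eq_zero,
        add_zero]
    have hBba : B b a = β := by
      have : B a b = β := by simp [hb_def, hy, hza]
      rw [alt_swap hA, this, CharTwo.neg_eq]
    have hDc : tv hA ((tv hA a 1).1 b) 1 ∈ M := hmap _ hDa b (hD1 b hQb)
    set c := (tv hA a 1).1 b with hc_def
    have hc : c = b + β • a := by rw [hc_def, tv_apply, hBba, one_mul]
    have hQc : Q c = Q v := by
      rw [hc, hQ.add, hQb, hQ.smul, map_smul, smul_eq_mul, hBba]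
      have h2 : β ^ 2 * (Q a + 1) = Q v + 1 := by rw [hβ, div_mul_cancel₀ _ hne]
      rw [show 1 + β ^ 2 * Q a + β * β = 1 + β ^ 2 * (Q a + 1) by ring, h2, add_left_comm,
        CharTwo.add_self_eq_zero, add_zero]
    have hc0 : c ≠ 0 := fun h => hβ0 (by
      rw [hc] at h
      rw [← hBba, eq_neg_of_add_eq_zero_left h]
      simp [hA a])
    obtain ⟨t, ht, htc⟩ := htr c v hc0 hv hQc
    rw [← htc]
    exact hmap t (hM ht) c hDc
  refine eq_top_of_isAxis hA hN fun v c => ?_
  obtain ⟨r, hr⟩ := exists_sq_root c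
  have e : tv hA v c = tv hA (r • v) 1 := by rw [tv_smul, mul_one, ← pow_two, hr]
  rw [e]
  by_cases h0 : r • v = 0
  · rw [h0, show tv hA (0 : V) (1 : F) = 1 from Subtype.ext (LinearEquiv.ext fun x => by simp)]
    exact M.one_mem
  · exact hall _ h0

/-- The isometry group of `Q` is maximal in the symplectic group, more than two scalars. -/
theorem quadStab_maximal (hA : B.IsAlt) (hN : B.Nondegenerate) {Q : V → F} (hQ : QuadOf B Q)
    (hn : 4 ≤ finrank F V) (h4 : ∃ μ : F, μ ≠ 0 ∧ μ ≠ 1) {M : Subgroup (isomGroup B)}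
    (hM : quadStab B Q ≤ M) {g : isomGroup B}
    (hg : g ∈ M) (hgQ : g ∉ quadStab B Q) : M = ⊤ :=
  quadStab_maximal_of hA hN hQ hn (fun _ _ ha hb h => quadStab_transitive hA hN hQ h4 ha hb h) hM hg hgQ

theorem exists_not_mem_quadStab (hA : B.IsAlt) (hN : B.Nondegenerate) {Q : V → F} (hQ : QuadOf B Q)
    (hn : 4 ≤ finrank F V) : ∃ g : isomGroup B, g ∉ quadStab B Q := by
  have : Nontrivial V := Module.finrank_pos_iff.1 (by omega : 0 < finrank F V)
  obtain ⟨u, hu⟩ := exists_ne (0 : V)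
  obtain ⟨x, hx⟩ := alt_exists_partner hN.1 hu
  obtain ⟨z, hzu, hzx, hQz⟩ := exists_value_two hA hN hQ hn (u := u) (x := x) (by rw [hx]; exact one_ne_zero) (Q u)
  have ha : Q (u + z) = 0 := by
    rw [hQ.add, hQz, hzu, add_zero, CharTwo.add_self_eq_zero]
  have hB : B x (u + z) = 1 := by
    rw [map_add, hzx, add_zero, alt_comm hA, hx]
  refine ⟨tv hA (u + z) 1, fun h => ?_⟩
  have := h x
  rw [tv_apply, hB, mul_one, one_smul, hQ.add, hB, ha, add_zero] at this
  exact one_ne_zero (add_eq_left.1 this)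

end CfsgLib.Classical.SpFourEven
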