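import Cfsg.Agent.Lib.Classical.SpFourEven.Subfield
import Cfsg.Agent.Lib.Classical.SubfieldMax.SympSmall
import Cfsg.Agent.Lib.Classical.SpFourEven.Orth
import Cfsg.Agent.Lib.Classical.SpFourEven.FieldExt
import Cfsg.Agent.Lib.Classical.SympDecomp
import Cfsg.Agent.Lib.Classical.SubfieldMax.Member
import Cfsg.Agent.Lib.Classical.GSpMax
import Cfsg.Agent.Lib.Classical.FieldExtSymp.Matrix

/-!
# The geometric subgroups of `Sp₄(q)` for even `q ≥ 4`, in matrix form
-/

set_option autoImplicit false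
set_option linter.unusedSectionVars false

open Cfsg Matrix Module

namespace CfsgLib.Classical.SpFourEven

variable {F : Type*} [Field F] [Fintype F] {m : ℕ}

theorem singular_maximal (hm : 1 ≤ m) (W : Submodule F (Fin m ⊕ Fin m → F)) (hW0 : W ≠ ⊥) (hW : Cfsg.Geo.IsTotallySingularFor (Cfsg.sympForm m F) W) :
    Cfsg.Geo.IsMaximalIn (Cfsg.spGL m F) (Cfsg.Geo.subspaceStabilizer W ⊓ Cfsg.spGL m F) := by
  have hW' : ∀ a ∈ W, ∀ b ∈ W, CfsgLib.Classical.sympBil F m a b = 0 := fun a ha b hb => by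
    rw [CfsgLib.Classical.sympBil_apply]; exact hW a ha b hb
  refine CfsgLib.Classical.spGL_isMaximalIn m W hW0 ?_ fun M hM g hg hgW =>
    CfsgLib.Classical.top_of_stab_isotropic (CfsgLib.Classical.sympBil_isAlt m)
      (CfsgLib.Classical.sympBil_nondegenerate m) hW' hM hg hgW
  rintro rfl
  obtain ⟨v, hv⟩ := CfsgLib.Classical.alt_exists_partner (CfsgLib.Classical.sympBil_nondegenerate (F := F) m).1
    (show (Pi.single (Sum.inl ⟨0, by omega⟩) 1 : Fin m ⊕ Fin m → F) ≠ 0 by simp)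
  exact zero_ne_one ((hW' _ Submodule.mem_top v Submodule.mem_top).symm.trans hv)

theorem decomp_maximal {t : ℕ} (k : ℕ) (D : Fin t → Submodule F (Fin m ⊕ Fin m → F)) (hD : Cfsg.Geo.IsNondegenerateMDecomposition (Cfsg.sympForm m F) k D) (hex : ¬ (k = 2 ∧ Fintype.card F = 2)) :
    Cfsg.Geo.IsMaximalIn (Cfsg.spGL m F) (Cfsg.Geo.decompositionStabilizer D ⊓ Cfsg.spGL m F) := by
  classical
  let B := CfsgLib.Classical.sympBil F m
  have hA := CfsgLib.Classical.sympBil_isAlt (F := F) m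
  have hN := CfsgLib.Classical.sympBil_nondegenerate (F := F) m
  have hdec : CfsgLib.Classical.OrthDecomp B D k :=
    ⟨fun i => CfsgLib.Classical.nondegOn_iff.2 fun x hx hx' => by
        by_contra hne
        obtain ⟨y, hy, hyx⟩ := (hD.nondegenerate i x hx hne).1
        exact hyx (by rw [← CfsgLib.Classical.sympBil_apply]; exact hx' y hy),
      fun i j hij u hu v hv => by rw [CfsgLib.Classical.sympBil_apply]; exact hD.orthogonal i j hij u hu v hv,
      hD.decomp.iSup_eq_top, hD.decomp.finrank_eq⟩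
  have hfield : k = 2 → ∃ μ : F, μ ≠ 0 ∧ μ + 1 ≠ 0 := by
    intro hk2
    by_contra hc
    push Not at hc
    have hle : (Finset.univ : Finset F) ⊆ {0, -1} := fun a _ => by
      rcases eq_or_ne a 0 with rfl | ha
      · simp
      · simp [eq_neg_of_add_eq_zero_left (hc a ha)]
    have h1 := (Finset.card_le_card hle).trans Finset.card_le_two
    rw [Finset.card_univ] at h1
    have h2 : 1 < Fintype.card F := Fintype.one_lt_card
    exact hex ⟨hk2, by omega⟩
  let e := ((CfsgLib.Classical.spEquiv (F := F) m).symm.trans (CfsgLib.Classical.spGLEquiv m))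
  let ψ : CfsgLib.Classical.isomGroup B →* Matrix.GeneralLinearGroup (Fin m ⊕ Fin m) F :=
    (Cfsg.spGL m F).subtype.comp e.toMonoidHom
  have hψ : ∀ g, Matrix.toLin' (ψ g : Matrix (Fin m ⊕ Fin m) (Fin m ⊕ Fin m) F) = g.1.toLinearMap := fun g =>
    LinearMap.ext fun x => by
      rw [Matrix.toLin'_apply]
      change ((CfsgLib.Classical.spEquiv (F := F) m).symm g).1.mulVec x = g.1 x
      rw [← CfsgLib.Classical.spEquiv_apply, MulEquiv.apply_symm_apply]
  have hψs : ∀ t ∈ Cfsg.spGL m F, ∃ g, ψ g = t := fun t ht => ⟨e.symm ⟨t, ht⟩, by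
    simp only [ψ, MonoidHom.coe_comp, Function.comp_apply, MulEquiv.coe_toMonoidHom, MulEquiv.apply_symm_apply,
      Subgroup.coe_subtype]⟩
  have hiff : ∀ g, ψ g ∈ Cfsg.Geo.decompositionStabilizer D ↔ CfsgLib.Classical.IsDecompSym D g := fun g => by
    change (∃ σ : Equiv.Perm (Fin t), ∀ i, (D i).map (Matrix.toLin' (ψ g : Matrix (Fin m ⊕ Fin m) (Fin m ⊕ Fin m) F)) = D (σ i)) ↔ _
    rw [hψ]
    rfl
  refine ⟨lt_of_le_not_ge inf_le_right fun h => ?_, fun M hM hMS => ?_⟩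
  · obtain ⟨g, hg⟩ := hdec.exists_not_sym hA hD.decomp.pos hD.decomp.two_le
    exact hg ((hiff g).1 (h (Subtype.prop (e g))).1)
  · by_cases hMQ : M ≤ Cfsg.Geo.decompositionStabilizer D
    · exact Or.inl (le_antisymm (le_inf hMQ hMS) hM)
    obtain ⟨s, hs, hsD⟩ := SetLike.not_le_iff_exists.1 hMQ
    obtain ⟨g, rfl⟩ := hψs s (hMS hs)
    have htop := hdec.maximal hA hN hD.decomp.pos hfield
      (M := M.comap ψ) (fun t ht => hM ⟨(hiff t).2 ht, Subtype.prop (e t)⟩) (g := g) hs (fun h => hsD ((hiff g).2 h))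
    refine Or.inr (le_antisymm hMS fun t ht => ?_)
    obtain ⟨g', rfl⟩ := hψs t ht
    exact (htop ▸ Subgroup.mem_top g' : g' ∈ M.comap ψ)

theorem subfield_maximal (hm : 2 ≤ m) (h2 : (2 : F) = 0) (F₀ : Subfield F) (r : ℕ) (hr : r.Prime) (hcard : Fintype.card F = Nat.card F₀ ^ r) (P : Matrix.GeneralLinearGroup (Fin m ⊕ Fin m) F) (ζ : F) (hζ : ζ ≠ 0) (hP : Cfsg.Geo.IsFormRationalStructure (Cfsg.sympForm m F) F₀ ζ P) :
    Cfsg.Geo.IsMaximalIn (Cfsg.spGL m F) (Cfsg.Geo.subfieldSubgroup F₀ P ⊓ Cfsg.spGL m F) := by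
  classical
  let B := ζ • CfsgLib.Classical.sympBil F m
  have hB : ∀ u v, B u v = ζ * Cfsg.sympForm m F u v := fun u v => by
    simp [B, CfsgLib.Classical.sympBil_apply]
  let Pm : Matrix (Fin m ⊕ Fin m) (Fin m ⊕ Fin m) F := P
  let Pi' : Matrix (Fin m ⊕ Fin m) (Fin m ⊕ Fin m) F := ((P⁻¹ : GL (Fin m ⊕ Fin m) F) : Matrix _ _ F)
  have hPP : ∀ x, Pm.mulVec (Pi'.mulVec x) = x := fun x => by
    rw [Matrix.mulVec_mulVec, ← Units.val_mul, mul_inv_cancel, Units.val_one, Matrix.one_mulVec]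
  have hPP' : ∀ x, Pi'.mulVec (Pm.mulVec x) = x := fun x => by
    rw [Matrix.mulVec_mulVec, ← Units.val_mul, inv_mul_cancel, Units.val_one, Matrix.one_mulVec]
  let V₀ : Submodule F₀ (Fin m ⊕ Fin m → F) :=
    { carrier := {x | ∀ i, Pi'.mulVec x i ∈ F₀}
      add_mem' := fun {a b} ha hb i => by rw [Matrix.mulVec_add]; exact add_mem (ha i) (hb i)
      zero_mem' := fun i => by rw [Matrix.mulVec_zero]; exact zero_mem F₀
      smul_mem' := fun c a ha i => by
        rw [CfsgLib.Classical.SubfieldMax.coe_smul_eq, Matrix.mulVec_smul]; exact mul_mem c.2 (ha i) }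
  have hcol : ∀ j, Pm.mulVec (Pi.single j 1) ∈ V₀ := fun j i => by
    rw [hPP', Pi.single_apply]; split_ifs <;> [exact one_mem F₀; exact zero_mem F₀]
  have hN := CfsgLib.Classical.sympBil_nondegenerate (F := F) m
  have hR : CfsgLib.Classical.SubfieldMax.IsFrame B V₀ := by
    refine ⟨fun x => ?_, ⟨fun x hx => hN.1 x fun y => ?_, fun x hx => hN.2 x fun y => ?_⟩, fun u hu v hv => ?_,
      eq_top_iff.2 fun x _ => ?_⟩
    · show ζ • CfsgLib.Classical.sympBil F m x x = 0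
      rw [CfsgLib.Classical.sympBil_isAlt m x, smul_zero]
    · have h := hx y
      exact (smul_eq_zero.1 (show ζ • CfsgLib.Classical.sympBil F m x y = 0 from h)).resolve_left hζ
    · have h := hx y
      exact (smul_eq_zero.1 (show ζ • CfsgLib.Classical.sympBil F m y x = 0 from h)).resolve_left hζ
    · have h := hP _ _ hu hv
      rw [hB]
      rwa [hPP, hPP] at h
    · rw [show x = ∑ j, Pi'.mulVec x j • Pm.mulVec (Pi.single j 1) by
        rw [← (Finset.sum_congr rfl fun j _ => Matrix.mulVec_smul Pm (Pi'.mulVec x j) (Pi.single j 1)),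
          ← Matrix.mulVec_sum]
        conv_lhs => rw [← hPP x]
        congr 1
        ext i; simp [Finset.sum_apply, Pi.single_apply]]
      exact Submodule.sum_mem _ fun j _ => Submodule.smul_mem _ _ (Submodule.subset_span (hcol j))
  let ψ : CfsgLib.Classical.isomGroup B →* GL (Fin m ⊕ Fin m) F :=
    CfsgLib.Classical.linToGL.comp (CfsgLib.Classical.isomGroup B).subtype
  have hψ : ∀ g x, (ψ g : Matrix _ _ F).mulVec x = g.1 x := fun g x => CfsgLib.Classical.linToGL_mulVec _ _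
  have hψmem : ∀ g, ψ g ∈ Cfsg.spGL m F := fun g u v => by
    show Cfsg.sympForm m F ((ψ g : Matrix _ _ F).mulVec u) ((ψ g : Matrix _ _ F).mulVec v) = Cfsg.sympForm m F u v
    rw [hψ, hψ]
    exact mul_left_cancel₀ hζ (by rw [← hB, ← hB]; exact g.2 u v)
  have hψs : ∀ t ∈ Cfsg.spGL m F, ∃ g, ψ g = t := by
    intro t ht
    let e : (Fin m ⊕ Fin m → F) ≃ₗ[F] (Fin m ⊕ Fin m → F) :=
      LinearEquiv.ofLinearMap (Matrix.toLin' (t : Matrix _ _ F)) (Matrix.toLin' ((t⁻¹ : GL (Fin m ⊕ Fin m) F) : Matrix _ _ F))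
        (by rw [← Matrix.toLin'_mul, ← Units.val_mul, mul_inv_cancel, Units.val_one, Matrix.toLin'_one])
        (by rw [← Matrix.toLin'_mul, ← Units.val_mul, inv_mul_cancel, Units.val_one, Matrix.toLin'_one])
    refine ⟨⟨e, fun x y => ?_⟩, Units.ext (Matrix.ext_iff_mulVec.2 fun x => ?_)⟩
    · rw [hB, hB, show Cfsg.sympForm m F (e x) (e y) = Cfsg.sympForm m F x y from ht x y]
    · rw [hψ]; simp [e]
  have hH : ∀ g, ψ g ∈ Geo.subfieldSubgroup F₀ P ↔ ∃ s : F, s ≠ 0 ∧ ∀ f ∈ V₀, s • g.1 f ∈ V₀ := by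
    intro g
    rw [CfsgLib.Classical.SubfieldMax.mem_subfieldSubgroup_iff]
    refine exists_congr fun c => and_congr_right fun _ => ⟨fun h f hf i => ?_, fun h a b => ?_⟩
    · have e : Pi'.mulVec (c • g.1 f) = (c • ((P⁻¹ * ψ g * P : GL (Fin m ⊕ Fin m) F) : Matrix _ _ F)).mulVec (Pi'.mulVec f) := by
        rw [Matrix.mulVec_smul, Matrix.smul_mulVec, Units.val_mul, Units.val_mul, ← Matrix.mulVec_mulVec,
          ← Matrix.mulVec_mulVec, show (P : Matrix _ _ F).mulVec (Pi'.mulVec f) = f from hPP f, hψ]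
      rw [e]
      simp only [Matrix.mulVec, dotProduct]
      refine Subfield.sum_mem _ fun j _ => mul_mem ?_ (hf j)
      exact h i j
    · have := h _ (hcol b) a
      rw [Matrix.mulVec_smul, Pi.smul_apply, ← hψ, Matrix.mulVec_mulVec, Matrix.mulVec_mulVec, Matrix.mulVec_single_one] at this
      rw [Units.val_mul, Units.val_mul]
      exact this
  have hdim : 3 ≤ Module.finrank F₀ V₀ :=
    le_trans (by rw [Module.finrank_fintype_fun_eq_card]; simp; omega) hR.finrank_le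
  have hrat : ∀ u ∈ V₀, ∀ c ∈ F₀, ψ (CfsgLib.Classical.tv hR.isAlt u c) ∈ Geo.subfieldSubgroup F₀ P := by
    intro u hu c hc
    refine (hH _).2 ⟨1, one_ne_zero, fun f hf => ?_⟩
    rw [one_smul, CfsgLib.Classical.tv_apply]
    exact add_mem hf (CfsgLib.Classical.SubfieldMax.smul_mem' (mul_mem hc (hR.form f hf u hu)) hu)
  refine ⟨lt_of_le_of_ne inf_le_right ?_, fun M hM hMK => ?_⟩
  · intro he
    obtain ⟨lam, hlam⟩ : ∃ lam : F, lam ∉ F₀ := by
      by_contra h
      push Not at h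
      have h1 : Fintype.card F = Nat.card F₀ := by
        rw [← Nat.card_eq_fintype_card]
        exact (Nat.card_congr (Equiv.subtypeUnivEquiv h)).symm
      rw [h1] at hcard
      exact (lt_self_pow₀ (Finite.one_lt_card (α := F₀)) hr.one_lt).ne hcard
    haveI := Module.nontrivial_of_finrank_pos (R := F₀) (M := V₀) (by omega)
    obtain ⟨u, hu⟩ := exists_ne (0 : V₀)
    obtain ⟨y, hy⟩ : ∃ y : V₀, B (y : _ → F) (u : _ → F) ≠ 0 := by
      by_contra hc
      push Not at hc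
      exact hu (Subtype.ext (hR.sep fun z hz => hc ⟨z, hz⟩))
    obtain ⟨s, hs, hsV⟩ := (hH _).1 (he.symm.le (hψmem (CfsgLib.Classical.tv hR.isAlt (u : _ → F) lam))).1
    have hb := hR.form _ y.2 _ u.2
    have h1 := hR.form _ y.2 _ (hsV _ u.2)
    rw [CfsgLib.Classical.tv_apply, hR.isAlt (u : _ → F), mul_zero, zero_smul, add_zero, map_smul, smul_eq_mul] at h1
    have hs0 : s ∈ F₀ := by
      have := div_mem h1 hb
      rwa [mul_div_cancel_right₀ _ hy] at this
    have h2 := hR.form _ y.2 _ (hsV _ y.2)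
    rw [CfsgLib.Classical.tv_apply, map_smul, map_add, map_smul, hR.isAlt (y : _ → F), zero_add, smul_eq_mul,
      smul_eq_mul] at h2
    have h3 := div_mem h2 (mul_mem (mul_mem hs0 hb) hb)
    refine hlam ?_
    convert h3 using 1
    field_simp
  · rcases eq_or_ne M (Geo.subfieldSubgroup F₀ P ⊓ Cfsg.spGL m F) with h | h
    · exact Or.inl h
    refine Or.inr (le_antisymm hMK ?_)
    obtain ⟨t, ht, htH⟩ := SetLike.not_le_iff_exists.1 fun hle => h (le_antisymm hle hM)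
    obtain ⟨g, rfl⟩ := hψs t (hMK ht)
    have htop := CfsgLib.Classical.SpFourEven.symp_top (hR := hR) (M := M.comap ψ)
      (fun u hu c hc => hM ⟨hrat u hu c hc, hψmem _⟩) h2 hdim hr hcard (g := g) ht
      (fun hex => htH ⟨(hH g).2 hex, hψmem g⟩)
    intro s hs
    obtain ⟨g', rfl⟩ := hψs s hs
    exact (htop ▸ Subgroup.mem_top g' : g' ∈ M.comap ψ)

theorem subfield_maximal_odd (hm : 3 ≤ m) (h2 : (2 : F) ≠ 0) (F₀ : Subfield F) (r : ℕ) (hr : r.Prime) (hcard : Fintype.card F = Nat.card F₀ ^ r) (P : Matrix.GeneralLinearGroup (Fin m ⊕ Fin m) F) (ζ : F) (hζ : ζ ≠ 0) (hP : Cfsg.Geo.IsFormRationalStructure (Cfsg.sympForm m F) F₀ ζ P) :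
    Cfsg.Geo.IsMaximalIn (Cfsg.spGL m F) (Cfsg.Geo.subfieldSubgroup F₀ P ⊓ Cfsg.spGL m F) := by
  classical
  let B := ζ • CfsgLib.Classical.sympBil F m
  have hB : ∀ u v, B u v = ζ * Cfsg.sympForm m F u v := fun u v => by
    simp [B, CfsgLib.Classical.sympBil_apply]
  let Pm : Matrix (Fin m ⊕ Fin m) (Fin m ⊕ Fin m) F := P
  let Pi' : Matrix (Fin m ⊕ Fin m) (Fin m ⊕ Fin m) F := ((P⁻¹ : GL (Fin m ⊕ Fin m) F) : Matrix _ _ F)
  have hPP : ∀ x, Pm.mulVec (Pi'.mulVec x) = x := fun x => by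
    rw [Matrix.mulVec_mulVec, ← Units.val_mul, mul_inv_cancel, Units.val_one, Matrix.one_mulVec]
  have hPP' : ∀ x, Pi'.mulVec (Pm.mulVec x) = x := fun x => by
    rw [Matrix.mulVec_mulVec, ← Units.val_mul, inv_mul_cancel, Units.val_one, Matrix.one_mulVec]
  let V₀ : Submodule F₀ (Fin m ⊕ Fin m → F) :=
    { carrier := {x | ∀ i, Pi'.mulVec x i ∈ F₀}
      add_mem' := fun {a b} ha hb i => by rw [Matrix.mulVec_add]; exact add_mem (ha i) (hb i)
      zero_mem' := fun i => by rw [Matrix.mulVec_zero]; exact zero_mem F₀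
      smul_mem' := fun c a ha i => by
        rw [CfsgLib.Classical.SubfieldMax.coe_smul_eq, Matrix.mulVec_smul]; exact mul_mem c.2 (ha i) }
  have hcol : ∀ j, Pm.mulVec (Pi.single j 1) ∈ V₀ := fun j i => by
    rw [hPP', Pi.single_apply]; split_ifs <;> [exact one_mem F₀; exact zero_mem F₀]
  have hN := CfsgLib.Classical.sympBil_nondegenerate (F := F) m
  have hR : CfsgLib.Classical.SubfieldMax.IsFrame B V₀ := by
    refine ⟨fun x => ?_, ⟨fun x hx => hN.1 x fun y => ?_, fun x hx => hN.2 x fun y => ?_⟩, fun u hu v hv => ?_,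
      eq_top_iff.2 fun x _ => ?_⟩
    · show ζ • CfsgLib.Classical.sympBil F m x x = 0
      rw [CfsgLib.Classical.sympBil_isAlt m x, smul_zero]
    · have h := hx y
      exact (smul_eq_zero.1 (show ζ • CfsgLib.Classical.sympBil F m x y = 0 from h)).resolve_left hζ
    · have h := hx y
      exact (smul_eq_zero.1 (show ζ • CfsgLib.Classical.sympBil F m y x = 0 from h)).resolve_left hζ
    · have h := hP _ _ hu hv
      rw [hB]
      rwa [hPP, hPP] at h
    · rw [show x = ∑ j, Pi'.mulVec x j • Pm.mulVec (Pi.single j 1) by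
        rw [← (Finset.sum_congr rfl fun j _ => Matrix.mulVec_smul Pm (Pi'.mulVec x j) (Pi.single j 1)),
          ← Matrix.mulVec_sum]
        conv_lhs => rw [← hPP x]
        congr 1
        ext i; simp [Finset.sum_apply, Pi.single_apply]]
      exact Submodule.sum_mem _ fun j _ => Submodule.smul_mem _ _ (Submodule.subset_span (hcol j))
  let ψ : CfsgLib.Classical.isomGroup B →* GL (Fin m ⊕ Fin m) F :=
    CfsgLib.Classical.linToGL.comp (CfsgLib.Classical.isomGroup B).subtype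
  have hψ : ∀ g x, (ψ g : Matrix _ _ F).mulVec x = g.1 x := fun g x => CfsgLib.Classical.linToGL_mulVec _ _
  have hψmem : ∀ g, ψ g ∈ Cfsg.spGL m F := fun g u v => by
    show Cfsg.sympForm m F ((ψ g : Matrix _ _ F).mulVec u) ((ψ g : Matrix _ _ F).mulVec v) = Cfsg.sympForm m F u v
    rw [hψ, hψ]
    exact mul_left_cancel₀ hζ (by rw [← hB, ← hB]; exact g.2 u v)
  have hψs : ∀ t ∈ Cfsg.spGL m F, ∃ g, ψ g = t := by
    intro t ht
    let e : (Fin m ⊕ Fin m → F) ≃ₗ[F] (Fin m ⊕ Fin m → F) :=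
      LinearEquiv.ofLinearMap (Matrix.toLin' (t : Matrix _ _ F)) (Matrix.toLin' ((t⁻¹ : GL (Fin m ⊕ Fin m) F) : Matrix _ _ F))
        (by rw [← Matrix.toLin'_mul, ← Units.val_mul, mul_inv_cancel, Units.val_one, Matrix.toLin'_one])
        (by rw [← Matrix.toLin'_mul, ← Units.val_mul, inv_mul_cancel, Units.val_one, Matrix.toLin'_one])
    refine ⟨⟨e, fun x y => ?_⟩, Units.ext (Matrix.ext_iff_mulVec.2 fun x => ?_)⟩
    · rw [hB, hB, show Cfsg.sympForm m F (e x) (e y) = Cfsg.sympForm m F x y from ht x y]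
    · rw [hψ]; simp [e]
  have hH : ∀ g, ψ g ∈ Geo.subfieldSubgroup F₀ P ↔ ∃ s : F, s ≠ 0 ∧ ∀ f ∈ V₀, s • g.1 f ∈ V₀ := by
    intro g
    rw [CfsgLib.Classical.SubfieldMax.mem_subfieldSubgroup_iff]
    refine exists_congr fun c => and_congr_right fun _ => ⟨fun h f hf i => ?_, fun h a b => ?_⟩
    · have e : Pi'.mulVec (c • g.1 f) = (c • ((P⁻¹ * ψ g * P : GL (Fin m ⊕ Fin m) F) : Matrix _ _ F)).mulVec (Pi'.mulVec f) := by
        rw [Matrix.mulVec_smul, Matrix.smul_mulVec, Units.val_mul, Units.val_mul, ← Matrix.mulVec_mulVec,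
          ← Matrix.mulVec_mulVec, show (P : Matrix _ _ F).mulVec (Pi'.mulVec f) = f from hPP f, hψ]
      rw [e]
      simp only [Matrix.mulVec, dotProduct]
      refine Subfield.sum_mem _ fun j _ => mul_mem ?_ (hf j)
      exact h i j
    · have := h _ (hcol b) a
      rw [Matrix.mulVec_smul, Pi.smul_apply, ← hψ, Matrix.mulVec_mulVec, Matrix.mulVec_mulVec, Matrix.mulVec_single_one] at this
      rw [Units.val_mul, Units.val_mul]
      exact this
  have hdim : 6 ≤ Module.finrank F₀ V₀ :=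
    le_trans (by rw [Module.finrank_fintype_fun_eq_card]; simp; omega) hR.finrank_le
  have hrat : ∀ u ∈ V₀, ∀ c ∈ F₀, ψ (CfsgLib.Classical.tv hR.isAlt u c) ∈ Geo.subfieldSubgroup F₀ P := by
    intro u hu c hc
    refine (hH _).2 ⟨1, one_ne_zero, fun f hf => ?_⟩
    rw [one_smul, CfsgLib.Classical.tv_apply]
    exact add_mem hf (CfsgLib.Classical.SubfieldMax.smul_mem' (mul_mem hc (hR.form f hf u hu)) hu)
  refine ⟨lt_of_le_of_ne inf_le_right ?_, fun M hM hMK => ?_⟩
  · intro he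
    obtain ⟨lam, hlam⟩ : ∃ lam : F, lam ∉ F₀ := by
      by_contra h
      push Not at h
      have h1 : Fintype.card F = Nat.card F₀ := by
        rw [← Nat.card_eq_fintype_card]
        exact (Nat.card_congr (Equiv.subtypeUnivEquiv h)).symm
      rw [h1] at hcard
      exact (lt_self_pow₀ (Finite.one_lt_card (α := F₀)) hr.one_lt).ne hcard
    haveI := Module.nontrivial_of_finrank_pos (R := F₀) (M := V₀) (by omega)
    obtain ⟨u, hu⟩ := exists_ne (0 : V₀)
    obtain ⟨y, hy⟩ : ∃ y : V₀, B (y : _ → F) (u : _ → F) ≠ 0 := by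
      by_contra hc
      push Not at hc
      exact hu (Subtype.ext (hR.sep fun z hz => hc ⟨z, hz⟩))
    obtain ⟨s, hs, hsV⟩ := (hH _).1 (he.symm.le (hψmem (CfsgLib.Classical.tv hR.isAlt (u : _ → F) lam))).1
    have hb := hR.form _ y.2 _ u.2
    have h1 := hR.form _ y.2 _ (hsV _ u.2)
    rw [CfsgLib.Classical.tv_apply, hR.isAlt (u : _ → F), mul_zero, zero_smul, add_zero, map_smul, smul_eq_mul] at h1
    have hs0 : s ∈ F₀ := by
      have := div_mem h1 hb
      rwa [mul_div_cancel_right₀ _ hy] at this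
    have h2 := hR.form _ y.2 _ (hsV _ y.2)
    rw [CfsgLib.Classical.tv_apply, map_smul, map_add, map_smul, hR.isAlt (y : _ → F), zero_add, smul_eq_mul,
      smul_eq_mul] at h2
    have h3 := div_mem h2 (mul_mem (mul_mem hs0 hb) hb)
    refine hlam ?_
    convert h3 using 1
    field_simp
  · rcases eq_or_ne M (Geo.subfieldSubgroup F₀ P ⊓ Cfsg.spGL m F) with h | h
    · exact Or.inl h
    refine Or.inr (le_antisymm hMK ?_)
    obtain ⟨t, ht, htH⟩ := SetLike.not_le_iff_exists.1 fun hle => h (le_antisymm hle hM)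
    obtain ⟨g, rfl⟩ := hψs t (hMK ht)
    have htop := CfsgLib.Classical.SubfieldMax.symp_top_small (hR := hR) (M := M.comap ψ)
      (fun u hu c hc => hM ⟨hrat u hu c hc, hψmem _⟩) h2 hdim hr hcard (g := g) ht
      (fun hex => htH ⟨(hH g).2 hex, hψmem g⟩)
    intro s hs
    obtain ⟨g', rfl⟩ := hψs s hs
    exact (htop ▸ Subgroup.mem_top g' : g' ∈ M.comap ψ)

theorem quad_maximal_of (hm : 2 ≤ m) (hμ : (∃ μ : F, μ ≠ 0 ∧ μ ≠ 1) ∨ 3 ≤ m) (heven : ¬ Odd (Fintype.card F)) (Q : (Fin m ⊕ Fin m → F) → F) (hQ : Cfsg.Geo.IsNondegenerateQuadraticForm Q) (hpol : ∀ u v, QuadraticMap.polar Q u v = Cfsg.sympForm m F u v) :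
    Cfsg.Geo.IsMaximalIn (Cfsg.spGL m F) (Cfsg.Geo.quadSimilarityGroup Q ⊓ Cfsg.spGL m F) := by
  classical
  haveI : CharP F 2 := by
    have h : Fintype.card F % 2 = 0 := Nat.not_odd_iff.1 heven
    exact ringChar.of_eq (FiniteField.even_card_iff_char_two.2 h)
  have hA := CfsgLib.Classical.sympBil_isAlt (F := F) m
  have hN := CfsgLib.Classical.sympBil_nondegenerate (F := F) m
  have hq : CfsgLib.Classical.QuadOf (CfsgLib.Classical.sympBil F m) Q :=
    ⟨fun x y => by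
      rw [CfsgLib.Classical.sympBil_apply, ← hpol x y]
      simp only [QuadraticMap.polar]
      ring, hQ.smul⟩
  have hn : 4 ≤ Module.finrank F (Fin m ⊕ Fin m → F) := by simp; omega
  let e := ((CfsgLib.Classical.spEquiv (F := F) m).symm.trans (CfsgLib.Classical.spGLEquiv m))
  let ψ : CfsgLib.Classical.isomGroup (CfsgLib.Classical.sympBil F m) →* Matrix.GeneralLinearGroup (Fin m ⊕ Fin m) F :=
    (Cfsg.spGL m F).subtype.comp e.toMonoidHom
  have hψ : ∀ g x, (ψ g : Matrix (Fin m ⊕ Fin m) (Fin m ⊕ Fin m) F).mulVec x = g.1 x := fun g x => by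
    change ((CfsgLib.Classical.spEquiv (F := F) m).symm g).1.mulVec x = _
    rw [← CfsgLib.Classical.spEquiv_apply, MulEquiv.apply_symm_apply]
  have hψs : ∀ t ∈ Cfsg.spGL m F, ∃ g, ψ g = t := fun t ht => ⟨e.symm ⟨t, ht⟩, by
    simp only [ψ, MonoidHom.coe_comp, Function.comp_apply, MulEquiv.coe_toMonoidHom, MulEquiv.apply_symm_apply,
      Subgroup.coe_subtype]⟩
  have hiff : ∀ g, ψ g ∈ Cfsg.Geo.quadSimilarityGroup Q ↔
      g ∈ CfsgLib.Classical.quadStab (CfsgLib.Classical.sympBil F m) Q := by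
    intro g
    constructor
    · rintro ⟨c, hc⟩ x
      simp only [hψ] at hc
      have hc1 : (c : F) = 1 := by
        have : Nontrivial (Fin m ⊕ Fin m → F) := Module.finrank_pos_iff.1 (by omega : 0 < Module.finrank F (Fin m ⊕ Fin m → F))
        obtain ⟨u, hu⟩ := exists_ne (0 : Fin m ⊕ Fin m → F)
        obtain ⟨v, hv⟩ := CfsgLib.Classical.alt_exists_partner hN.1 hu
        have h1 := hq.add (g.1 u) (g.1 v)
        rw [← map_add, hc, hc, hc, g.2, hq.add, hv] at h1
        linear_combination h1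
      rw [hc, hc1, one_mul]
    · intro h
      exact ⟨1, fun v => by rw [hψ, h, Units.val_one, one_mul]⟩
  refine ⟨lt_of_le_not_ge inf_le_right fun h => ?_, fun M hM hMS => ?_⟩
  · obtain ⟨g, hg⟩ := CfsgLib.Classical.SpFourEven.exists_not_mem_quadStab hA hN hq hn
    exact hg ((hiff g).1 (h (Subtype.prop (e g))).1)
  · by_cases hMQ : M ≤ Cfsg.Geo.quadSimilarityGroup Q
    · exact Or.inl (le_antisymm (le_inf hMQ hMS) hM)
    obtain ⟨t, ht, htQ⟩ := SetLike.not_le_iff_exists.1 hMQ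
    obtain ⟨g, rfl⟩ := hψs t (hMS ht)
    have htop := CfsgLib.Classical.SpFourEven.quadStab_maximal_of hA hN hq hn
      (fun _ _ ha hb h => by
        rcases hμ with hμ | hm3
        · exact CfsgLib.Classical.SpFourEven.quadStab_transitive hA hN hq hμ ha hb h
        · exact CfsgLib.Classical.SpFourEven.quadStab_transitive_six hA hN hq (by simp; omega) ha hb h)
      (M := M.comap ψ) (fun s hs => hM ⟨(hiff s).2 hs, Subtype.prop (e s)⟩) (g := g) ht (fun h => htQ ((hiff g).2 h))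
    refine Or.inr (le_antisymm hMS fun s hs => ?_)
    obtain ⟨g', rfl⟩ := hψs s hs
    exact (htop ▸ Subgroup.mem_top g' : g' ∈ M.comap ψ)

theorem quad_maximal (hm : 2 ≤ m) (hμ : ∃ μ : F, μ ≠ 0 ∧ μ ≠ 1) (heven : ¬ Odd (Fintype.card F)) (Q : (Fin m ⊕ Fin m → F) → F) (hQ : Cfsg.Geo.IsNondegenerateQuadraticForm Q) (hpol : ∀ u v, QuadraticMap.polar Q u v = Cfsg.sympForm m F u v) :
    Cfsg.Geo.IsMaximalIn (Cfsg.spGL m F) (Cfsg.Geo.quadSimilarityGroup Q ⊓ Cfsg.spGL m F) :=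
  quad_maximal_of hm (Or.inl hμ) heven Q hQ hpol

set_option backward.isDefEq.respectTransparency false in
open CfsgLib.Classical.FieldExtMax CfsgLib.Classical.FieldExtSymp in
theorem field_maximal (hm2 : m = 2) (h2 : (2 : F) = 0) (hμ : ∃ μ : F, μ ≠ 0 ∧ μ ≠ 1) {r : ℕ} (hr2 : r = 2)
    (K : Subalgebra F (Matrix (Fin m ⊕ Fin m) (Fin m ⊕ Fin m) F)) (hK : Cfsg.Geo.IsFieldSubalgebra r K)
    (hsa : Cfsg.Geo.IsSelfAdjointFor (Cfsg.sympForm m F) K)
    (halt : ∀ k ∈ K, ∀ v : (Fin m ⊕ Fin m → F), Cfsg.sympForm m F (Matrix.mulVec k v) v = 0) :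
    Cfsg.Geo.IsMaximalIn (Cfsg.spGL m F) (Cfsg.Geo.subalgebraNormalizer K ⊓ Cfsg.spGL m F) := by
  have hr : r.Prime := hr2 ▸ Nat.prime_two
  have hm : 2 ≤ m := hm2.ge
  classical
  haveI : Nonempty (Fin m ⊕ Fin m) := ⟨Sum.inl ⟨0, by omega⟩⟩
  have hfield : IsField K := ⟨⟨0, 1, zero_ne_one⟩, fun a b => Subtype.ext (hK.comm _ a.2 _ b.2),
    fun {a} ha => by
      obtain ⟨y, hy, h⟩ := hK.inv a.1 a.2 fun h => ha (Subtype.ext h)
      exact ⟨⟨y, hy⟩, Subtype.ext h⟩⟩
  letI : Field K := hfield.toField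
  letI : Module K (Fin m ⊕ Fin m → F) := Module.compHom (Fin m ⊕ Fin m → F)
    ((Matrix.toLinAlgEquiv' : Matrix (Fin m ⊕ Fin m) (Fin m ⊕ Fin m) F ≃ₐ[F] _).toAlgHom.comp K.val).toRingHom
  have hsmul : ∀ (k : K) (x : Fin m ⊕ Fin m → F), k • x = k.1 *ᵥ x := fun k x =>
    Matrix.toLinAlgEquiv'_apply k.1 x
  haveI : IsScalarTower F K (Fin m ⊕ Fin m → F) := ⟨fun c k x => by
    rw [hsmul, hsmul]
    exact Matrix.smul_mulVec c k.1 x⟩
  haveI : FiniteDimensional F K := Module.finite_of_finrank_pos (by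
    have : Module.finrank F K = r := hK.finrank_eq
    rw [this]; exact hr.pos)
  haveI : FiniteDimensional K (Fin m ⊕ Fin m → F) :=
    Module.Finite.of_restrictScalars_finite F K (Fin m ⊕ Fin m → F)
  have hfin : finrank F K = r := hK.finrank_eq
  set B := sympBil F m with hBdef
  have hA := sympBil_isAlt (F := F) m
  have hN := sympBil_nondegenerate (F := F) m
  have hBk : ∀ (k : K) x y, B (k • x) y = B x (k • y) := fun k x y => by
    rw [sympBil_apply, sympBil_apply, hsmul, hsmul]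
    exact hsa k.1 k.2 x y
  have hBalt : ∀ (k : K) x, B x (k • x) = 0 := fun k x => by
    rw [← hBk, sympBil_apply, hsmul]
    exact halt k.1 k.2 x
  obtain ⟨f₀, hf₀'⟩ := exists_f₀ (F := F) (K := K)
  have hf₀ : f₀ ≠ 0 := fun h => by simp [h] at hf₀'
  have huniq : ∀ a b : K, (∀ l : K, f₀ (l * a) = f₀ (l * b)) → a = b := fun a b h => by
    by_contra hne
    obtain ⟨l, hl⟩ := exists_scalar hf₀ _ (sub_ne_zero.2 hne) (1 : F)
    rw [mul_sub, map_sub, h, sub_self] at hl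
    exact zero_ne_one hl
  have hlift : ∀ x, ∃ ψ : (Fin m ⊕ Fin m → F) →ₗ[K] K, ∀ y, B x y = f₀ (ψ y) := fun x => exists_lift hf₀ (B x)
  choose ψ hψ using hlift
  have hψk : ∀ (l : K) x y, f₀ (l * ψ x y) = B x (l • y) := fun l x y => by
    rw [hψ, map_smul, smul_eq_mul]
  let φ : (Fin m ⊕ Fin m → F) →ₗ[K] (Fin m ⊕ Fin m → F) →ₗ[K] K :=
    { toFun := ψ
      map_add' := fun x x' => LinearMap.ext fun y => huniq _ _ fun l => by
        rw [LinearMap.add_apply, mul_add, map_add, hψk, hψk, hψk, map_add, LinearMap.add_apply]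
      map_smul' := fun k x => LinearMap.ext fun y => huniq _ _ fun l => by
        rw [RingHom.id_apply, LinearMap.smul_apply, smul_eq_mul, ← mul_assoc, hψk, hψk, hBk, smul_smul, mul_comm k] }
  have hφ : ∀ x y, B x y = f₀ (φ x y) := hψ
  have hφA : φ.IsAlt := fun x => huniq _ _ fun l => by
    show f₀ (l * ψ x x) = _
    rw [hψk, hBalt, mul_zero, map_zero]
  have hφN : φ.Nondegenerate :=
    ⟨fun x hx => hN.1 x fun y => by rw [hφ, hx y, map_zero],
      fun y hy => hN.2 y fun x => by rw [hφ, hy x, map_zero]⟩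
  have hprod := finrank_mul_finrank F K (Fin m ⊕ Fin m → F)
  rw [hfin, Module.finrank_pi, Fintype.card_sum, Fintype.card_fin] at hprod
  have hdim : 2 ≤ finrank K (Fin m ⊕ Fin m → F) := by
    obtain ⟨u, hu⟩ := exists_ne (0 : Fin m ⊕ Fin m → F)
    obtain ⟨v, hv⟩ := alt_exists_partner hφN.1 hu
    rw [← finrank_pair hφA hv]
    exact Submodule.finrank_le _
  set N := Cfsg.Geo.subalgebraNormalizer K
  set S := Cfsg.spGL m F
  have hmemS : ∀ e : (Fin m ⊕ Fin m → F) ≃ₗ[F] (Fin m ⊕ Fin m → F),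
      linToGL e ∈ S ↔ ∀ x y, B (e x) (e y) = B x y := fun e => by
    refine ⟨fun h x y => ?_, fun h x y => ?_⟩
    · have h1 : Cfsg.sympForm m F ((linToGL e : Matrix _ _ F) *ᵥ x) ((linToGL e : Matrix _ _ F) *ᵥ y) =
          Cfsg.sympForm m F x y := h x y
      rwa [linToGL_mulVec, linToGL_mulVec, ← sympBil_apply, ← sympBil_apply] at h1
    · show Cfsg.sympForm m F ((linToGL e : Matrix _ _ F) *ᵥ x) ((linToGL e : Matrix _ _ F) *ᵥ y) =
          Cfsg.sympForm m F x y
      rw [linToGL_mulVec, linToGL_mulVec, ← sympBil_apply, ← sympBil_apply]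
      exact h x y
  have hsurj : ∀ g : GL (Fin m ⊕ Fin m) F, ∃ e : (Fin m ⊕ Fin m → F) ≃ₗ[F] (Fin m ⊕ Fin m → F),
      linToGL e = g := fun g => by
    refine ⟨LinearEquiv.ofLinearMap (Matrix.toLin' (g : Matrix _ _ F))
      (Matrix.toLin' ((g⁻¹ : GL (Fin m ⊕ Fin m) F) : Matrix _ _ F))
      (by rw [← Matrix.toLin'_mul, ← Units.val_mul, mul_inv_cancel, Units.val_one, Matrix.toLin'_one])
      (by rw [← Matrix.toLin'_mul, ← Units.val_mul, inv_mul_cancel, Units.val_one, Matrix.toLin'_one]),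
      Units.ext (Matrix.ext_iff_mulVec.2 fun x => by rw [linToGL_mulVec]; simp)⟩
  have hsp : ∀ e : isomGroup φ, linToGL (e.1.restrictScalars F) ∈ N ⊓ S := fun e => by
    refine ⟨FieldExtMax.mem_normalizer_iff.2 fun k => ⟨k, fun x => ?_⟩, (hmemS _).2 fun x y => ?_⟩
    · rw [linToGL_mulVec, linToGL_mulVec, ← hsmul, ← hsmul]
      exact e.1.map_smul k x
    · rw [hφ, hφ]
      exact congrArg f₀ (e.2 x y)
  refine ⟨lt_of_le_not_ge inf_le_right fun hle => ?_, fun M hM hMS => ?_⟩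
  · -- a transvection moving a line
    obtain ⟨a, ha⟩ : ∃ a : Fin m ⊕ Fin m → F, a ≠ 0 := exists_ne 0
    obtain ⟨k, hk⟩ : ∃ k : K, k ∉ (⊥ : Subalgebra F K) := by
      by_contra hall
      push Not at hall
      have h1 : (⊥ : Subalgebra F K) = ⊤ := eq_top_iff.2 fun x _ => hall x
      have h2 := Subalgebra.bot_eq_top_iff_finrank_eq_one.1 h1
      rw [hfin] at h2
      exact hr.one_lt.ne' h2
    have hka : k • a ∉ (F ∙ a : Submodule F (Fin m ⊕ Fin m → F)) := fun hmem => by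
      obtain ⟨c, hc⟩ := Submodule.mem_span_singleton.1 hmem
      rw [← algebraMap_smul K c a] at hc
      exact hk (smul_left_injective K ha hc ▸ Subalgebra.algebraMap_mem _ c)
    let M₀ : Subgroup ((Fin m ⊕ Fin m → F) ≃ₗ[F] (Fin m ⊕ Fin m → F)) := S.comap linToGL
    have hset : Setting B φ f₀ M₀ := ⟨hA, hN, hφA, hφN, hf₀, hφ, fun e he => (hmemS e).1 he,
      fun e => Subgroup.mem_comap.2 (hsp e).2⟩
    obtain ⟨v, hva, hvk⟩ := hset.exists_partner hka
    have hva' : B a v = 0 := hva a (Submodule.mem_span_singleton_self a)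
    have hT : linToGL (tv hA v 1).1 ∈ S := (hmemS _).2 (tv hA v 1).2
    obtain ⟨k', hk'⟩ := FieldExtMax.mem_normalizer_iff.1 (hle hT).1 k
    have h1 := hk' a
    rw [← hsmul, linToGL_mulVec, linToGL_mulVec, tv_apply, tv_apply, hva', hvk, ← hsmul] at h1
    simp only [mul_one, one_smul, mul_zero, zero_smul, add_zero] at h1
    have hv : v = (k' - k) • a := by rw [sub_smul, ← h1]; abel
    rw [hv, hBk, smul_smul, hBalt] at hvk
    exact one_ne_zero hvk.symm
  · by_cases hMN : M ≤ N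
    · exact Or.inl (le_antisymm (le_inf hMN hMS) hM)
    refine Or.inr (le_antisymm hMS fun s hs => ?_)
    obtain ⟨g₀, hgM, hgN⟩ := SetLike.not_le_iff_exists.1 hMN
    obtain ⟨g, rfl⟩ := hsurj g₀
    let M₀ : Subgroup ((Fin m ⊕ Fin m → F) ≃ₗ[F] (Fin m ⊕ Fin m → F)) := M.comap linToGL
    have hset : Setting B φ f₀ M₀ := ⟨hA, hN, hφA, hφN, hf₀, hφ, fun e he => (hmemS e).1 (hMS he),
      fun e => Subgroup.mem_comap.2 (hM (hsp e))⟩
    obtain ⟨a, hne⟩ : ∃ a, ∃ k : K, g (k • a) ∉ line F K (g a) := by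
      by_contra hall
      push Not at hall
      refine hgN (FieldExtMax.mem_normalizer_iff.2 fun k => ?_)
      obtain ⟨k', hk'⟩ := semilinear_of_lines hdim g hall k
      exact ⟨k', fun x => by rw [linToGL_mulVec, linToGL_mulVec, ← hsmul, ← hsmul]; exact hk' x⟩
    obtain ⟨e, rfl⟩ := hsurj s
    let ι : isomGroup B →* GL (Fin m ⊕ Fin m) F := linToGL.comp (isomGroup B).subtype
    have htop : tvGroup hA ≤ M.comap ι := (Subgroup.closure_le _).2 (by
      rintro _ ⟨v, c, rfl⟩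
      have hd2 : finrank K (Fin m ⊕ Fin m → F) = 2 := by
        rw [hr2] at hprod
        omega
      obtain ⟨z, hz, c₀, hc₀, hT⟩ := SpFourEven.exists_transvection hset h2 hμ (hr2 ▸ hfin) hd2
        (Subgroup.mem_comap.2 hgM) hne
      obtain ⟨t, ht, htx⟩ := SpFourEven.all_of_transvection hset h2 hz hc₀ hT v c
      have e1 : t = (tv hA v c).1 := LinearEquiv.ext fun x => by
        rw [htx, tv_apply]; rfl
      exact Subgroup.mem_comap.2 (show linToGL (tv hA v c).1 ∈ M from e1 ▸ ht))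
    exact htop (tvGroup_eq_top hA hN ▸ Subgroup.mem_top (⟨e, (hmemS e).1 hs⟩ : isomGroup B))

end CfsgLib.Classical.SpFourEven
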