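import Cfsg.Agent.Lib.Classical.SubfieldMax.SympSpread
import Cfsg.Agent.Lib.Classical.SubfieldMax.Main

/-!
# Symplectic groups over a subfield of prime index in characteristic two

Any group of isometries containing the rational transvections and a further element contains all
transvections; this works in every dimension at least four.
-/

set_option autoImplicit false
set_option linter.unusedSectionVars false

open Module

namespace CfsgLib.Classical.SpFourEven

open CfsgLib.Classical CfsgLib.Classical.SubfieldMax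

variable {F : Type*} [Field F] [Fintype F] {V : Type*} [AddCommGroup V] [Module F V] [FiniteDimensional F V]
  {F₀ : Subfield F} {B : V →ₗ[F] V →ₗ[F] F} {V₀ : Submodule F₀ V}
variable {hR : IsFrame B V₀} {M : Subgroup (isomGroup B)}

theorem two_vec (h2 : (2 : F) = 0) (v : V) : v + v = 0 := by rw [← two_smul F v, h2, zero_smul]

theorem two_fld (h2 : (2 : F) = 0) (c : F) : c + c = 0 := by rw [← two_mul, h2, zero_mul]

theorem sq_not_mem (h2 : (2 : F) = 0) {lam : F} (h : lam ∉ F₀) : lam * lam ∉ F₀ := by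
  intro hm
  haveI : CharP F₀ 2 := CharTwo.of_one_ne_zero_of_two_eq_zero one_ne_zero (Subtype.ext (show ((2 : F₀) : F) = ((0 : F₀) : F) by push_cast; exact h2))
  haveI : Fintype F₀ := Fintype.ofFinite F₀
  obtain ⟨s, hs⟩ := FiniteField.isSquare_of_char_two (ringChar.eq F₀ 2) (⟨lam * lam, hm⟩ : F₀)
  have e : lam * lam = (s : F) * s := congrArg Subtype.val hs
  have : (lam - s) * (lam - s) = 0 := by linear_combination e + ((s : F) * s - lam * s) * h2
  exact h (sub_eq_zero.1 (mul_self_eq_zero.1 this) ▸ s.2)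

/-- A rational perpendicular pair with irrational ratio of pairings. -/
theorem exists_perp_pair (hR : IsFrame B V₀) (h2 : (2 : F) = 0) (hdim : 3 ≤ finrank F₀ V₀) {x : V} {p q : V}
    (hp : p ∈ V₀) (hq : q ∈ V₀) (hpx : B p x ≠ 0) (hirr : B q x / B p x ∉ F₀) :
    ∃ a ∈ V₀, ∃ b ∈ V₀, B a b = 0 ∧ B a x ≠ 0 ∧ B b x / B a x ∉ F₀ := by
  by_cases hpq : B p q = 0
  · exact ⟨p, hp, q, hq, hpq, hpx, hirr⟩
  by_cases hex : ∃ c ∈ V₀, B p c = 0 ∧ B q c = 0 ∧ B c x ≠ 0
  · obtain ⟨c, hc, hpc, hqc, hcx⟩ := hex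
    by_cases hr : B c x / B p x ∈ F₀
    · refine ⟨c, hc, q, hq, hR.symm_zero hqc, hcx, fun hm => hirr ?_⟩
      have e : B q x / B p x = B q x / B c x * (B c x / B p x) := by field_simp
      rw [e]
      exact mul_mem hm hr
    · exact ⟨p, hp, c, hc, hpc, hpx, hr⟩
  push Not at hex
  obtain ⟨c, hcb, hc⟩ := hR.exists_perp_outside [⟨p, hp⟩, ⟨q, hq⟩] ⊥ (by simp; omega)
  have hpc : B p (c : V) = 0 := hc ⟨p, hp⟩ (by simp)
  have hqc : B q (c : V) = 0 := hc ⟨q, hq⟩ (by simp)
  obtain ⟨z, hz⟩ : ∃ z : V₀, B (z : V) (c : V) ≠ 0 := by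
    by_contra hn
    push Not at hn
    exact hcb (Submodule.mem_bot _ |>.2 (Subtype.ext (hR.sep fun u hu => hn ⟨u, hu⟩)))
  have hcz : B (c : V) (z : V) ≠ 0 := fun h => hz (hR.symm_zero h)
  have hqp : B q p ≠ 0 := fun h => hpq (hR.symm_zero h)
  have hF : ∀ u v : V, u ∈ V₀ → v ∈ V₀ → B u v ∈ F₀ := fun u v hu hv => hR.form u hu v hv
  set z' : V := (z : V) - (B q z / B q p) • p - (B p z / B p q) • q with hz'
  have hz'm : z' ∈ V₀ := sub_mem (sub_mem z.2
    (smul_mem' (div_mem (hF _ _ hq z.2) (hF _ _ hq hp)) hp))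
    (smul_mem' (div_mem (hF _ _ hp z.2) (hF _ _ hp hq)) hq)
  have e1 : B p z' = 0 := by
    simp only [hz', map_sub, map_smul, hR.isAlt p, smul_eq_mul, mul_zero, sub_zero]
    rw [div_mul_cancel₀ _ hpq, sub_self]
  have e2 : B q z' = 0 := by
    simp only [hz', map_sub, map_smul, hR.isAlt q, smul_eq_mul, mul_zero, sub_zero]
    rw [div_mul_cancel₀ _ hqp, sub_self]
  have e3 : B (c : V) z' = B (c : V) (z : V) := by
    simp only [hz', map_sub, map_smul, hR.symm_zero hpc, hR.symm_zero hqc, smul_eq_mul, mul_zero, sub_zero]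
  set c' : V := (B p q / B (c : V) (z : V)) • z' with hc'
  have hc'm : c' ∈ V₀ := smul_mem' (div_mem (hF _ _ hp hq) (hF _ _ c.2 z.2)) hz'm
  have hpc' : B p c' = 0 := by simp [hc', e1]
  have hqc' : B q c' = 0 := by simp [hc', e2]
  have hcc' : B (c : V) c' = B p q := by
    simp only [hc', map_smul, e3, smul_eq_mul]
    rw [div_mul_cancel₀ _ hcz]
  have hlam1 := hex c c.2 hpc hqc
  have hlam2 := hex c' hc'm hpc' hqc'
  refine ⟨p + c, add_mem hp c.2, q + c', add_mem hq hc'm, ?_, ?_, ?_⟩
  · simp only [map_add, LinearMap.add_apply, hpc', hR.symm_zero hqc, hcc', zero_add, add_zero, two_fld h2]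
  · rw [map_add, LinearMap.add_apply, hlam1, add_zero]; exact hpx
  · simp only [map_add, LinearMap.add_apply, hlam1, hlam2, add_zero]; exact hirr

/-! ### Elements of the parabolic subgroup of a point -/

/-- The maps `z ↦ z + α B(z,u) u + B(z,u) y + B(z,y) u`. -/
def par (B : V →ₗ[F] V →ₗ[F] F) (u y : V) (α : F) (z : V) : V :=
  z + (α * B z u) • u + B z u • y + B z y • u

/-- The element with parameters `y`, `α` lies in `M`. -/
def HasPar (M : Subgroup (isomGroup B)) (u y : V) (α : F) : Prop :=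
  B y u = 0 ∧ ∃ g ∈ M, ∀ z, g.1 z = par B u y α z

theorem HasPar.mul (h2 : (2 : F) = 0) (hA : B.IsAlt) {u y y' : V} {α α' : F}
    (h : HasPar M u y α) (h' : HasPar M u y' α') : HasPar M u (y + y') (α + α' + B y' y) := by
  obtain ⟨hy, g, hg, hgz⟩ := h
  obtain ⟨hy', g', hg', hgz'⟩ := h'
  refine ⟨by simp [hy, hy'], g * g', mul_mem hg hg', fun z => ?_⟩
  rw [Subgroup.coe_mul, LinearEquiv.mul_apply, hgz', hgz]
  have huy : B u y = 0 := by rw [alt_swap hA, hy, neg_zero]
  simp only [par, map_add, map_smul, LinearMap.add_apply, LinearMap.smul_apply, hA u, huy, hy', smul_eq_mul,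
    mul_zero, add_zero]
  module

theorem HasPar.conj {u y : V} {α : F} (h : HasPar M u y α) {g : isomGroup B} (hg : g ∈ M) (hgu : g.1 u = u) :
    HasPar M u (g.1 y) α := by
  obtain ⟨hy, t, ht, htz⟩ := h
  refine ⟨by rw [← hgu, g.2]; exact hy, g * t * g⁻¹, mul_mem (mul_mem hg ht) (inv_mem hg), fun z => ?_⟩
  rw [Subgroup.coe_mul, Subgroup.coe_mul, LinearEquiv.mul_apply, LinearEquiv.mul_apply, htz]
  have hz : g.1 ((g⁻¹).1 z) = z := by
    rw [← LinearEquiv.mul_apply, ← Subgroup.coe_mul, mul_inv_cancel]; rfl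
  have e1 : B ((g⁻¹).1 z) u = B z u := by rw [← g.2 ((g⁻¹).1 z) u, hgu, hz]
  have e2 : B ((g⁻¹).1 z) y = B z (g.1 y) := by rw [← g.2 ((g⁻¹).1 z) y, hz]
  simp only [par, map_add, map_smul, hgu, hz, e1, e2]

theorem HasPar.add_u (h2 : (2 : F) = 0) (hA : B.IsAlt) {u y : V} {α : F} (c : F) (h : HasPar M u y α) :
    HasPar M u (y + c • u) α := by
  obtain ⟨hy, g, hg, hgz⟩ := h
  refine ⟨by simp [hy, hA u], g, hg, fun z => ?_⟩
  rw [hgz]
  simp only [par, map_add, map_smul, smul_eq_mul, smul_add, add_smul, smul_smul, mul_comm (B z u) c]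
  linear_combination (norm := module) -(two_vec h2 ((c * B z u) • u))

theorem HasPar.isAxis (hA : B.IsAlt) {u : V} {α : F} (h : HasPar M u 0 α) : tv hA u α ∈ M := by
  obtain ⟨-, g, hg, hgz⟩ := h
  convert hg
  exact Subtype.ext (LinearEquiv.ext fun z => by simp [hgz, par])

/-- From a vector with irrational pairings on a rational perpendicular pair: a full axis. -/
theorem isAxis_of_pair (hM : RatTV hR M) (h2 : (2 : F) = 0) {r : ℕ} (hr : r.Prime)
    (hcard : Fintype.card F = Nat.card F₀ ^ r) {x : V} (hx : tv hR.isAlt x 1 ∈ M) {a b : V} (ha : a ∈ V₀)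
    (hb : b ∈ V₀) (hab : B a b = 0) (hax : B a x ≠ 0) (hirr : B b x / B a x ∉ F₀) :
    IsAxis hR.isAlt M (B b x • a + B a x • b) := by
  have hA := hR.isAlt
  have hC : ∀ s t : V, B s t = B t s := fun s t => by
    rw [alt_swap hA]; linear_combination -(B t s) * h2
  set la := B a x with hla
  set lb := B b x with hlb
  set u := lb • a + la • b with hu
  set ρ := lb / la with hρ
  have hlb' : lb = ρ * la := by rw [hρ, div_mul_cancel₀ _ hax]
  have hxu : B x u = 0 := by
    simp only [hu, map_add, map_smul, LinearMap.add_apply, LinearMap.smul_apply, hC x, ← hla, ← hlb, smul_eq_mul]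
    rw [mul_comm la lb, two_fld h2]
  have hau : B a u = 0 := by simp [hu, hA a, hab]
  have hbu : B b u = 0 := by simp [hu, hA b, hC b a, hab]
  -- the group elements fixing `u`
  have hta : ∀ c ∈ F₀, tv hA a c ∈ M ∧ (tv hA a c).1 u = u := fun c hc =>
    ⟨hM a ha c hc, by rw [tv_apply, hC u, hau, mul_zero, zero_smul, add_zero]⟩
  have htb : ∀ c ∈ F₀, tv hA b c ∈ M ∧ (tv hA b c).1 u = u := fun c hc =>
    ⟨hM b hb c hc, by rw [tv_apply, hC u, hbu, mul_zero, zero_smul, add_zero]⟩
  have htx : (tv hA x 1).1 u = u := by rw [tv_apply, hC u, hxu, mul_zero, zero_smul, add_zero]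
  -- the first element
  have hx1 : HasPar M u x 1 := by
    have hx' : tv hA (x + u) 1 ∈ M := by
      have h1 := mul_mem (mul_mem (hM a ha 1 (one_mem _)) (hM b hb 1 (one_mem _)))
        (hM _ (add_mem ha hb) 1 (one_mem _))
      have h3 := mul_mem (mul_mem h1 hx) (inv_mem h1)
      rw [conj_tv] at h3
      convert h3 using 2
      simp only [Subgroup.coe_mul, LinearEquiv.mul_apply, tv_apply, map_add, map_smul, LinearMap.add_apply,
        LinearMap.smul_apply, hA a, hA b, hab, hC b a, hC x a, hC x b, ← hla, ← hlb, one_mul, mul_zero,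
        zero_smul, add_zero, zero_add, smul_eq_mul, hu]
      linear_combination (norm := module) -(two_vec h2 (la • a + lb • b))
    refine ⟨hxu, _, mul_mem hx hx', fun z => ?_⟩
    simp only [Subgroup.coe_mul, LinearEquiv.mul_apply, tv_apply, par, map_add, map_smul, LinearMap.add_apply,
      LinearMap.smul_apply, hA x, hC u x, hxu, one_mul, mul_zero, add_zero, smul_eq_mul, add_smul]
    linear_combination (norm := module) two_vec h2 (B z x • x)
  -- additive closure
  have hadd : ∀ {y y' : V}, (∃ α, HasPar M u y α) → (∃ α, HasPar M u y' α) → ∃ α, HasPar M u (y + y') α :=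
    fun ⟨_, h⟩ ⟨_, h'⟩ => ⟨_, h.mul h2 hA h'⟩
  have hsub : ∀ {y y' : V} {α : F}, HasPar M u y α → y = y' → ∃ α, HasPar M u y' α :=
    fun h e => ⟨_, e ▸ h⟩
  -- the two moves
  have hmoveA : ∀ {t : F}, (∃ α, HasPar M u (t • x) α) → ∀ c ∈ F₀,
      (∃ α, HasPar M u ((c * t * la) • a) α) ∧ ∃ α, HasPar M u ((c * t * la * (ρ * ρ)) • a) α := by
    rintro t ⟨α, h⟩ c hc
    constructor
    · have := h.mul h2 hA (h.conj (hta c hc).1 (hta c hc).2)
      refine hsub this ?_
      rw [tv_apply, map_smul, LinearMap.smul_apply, hC x a, ← hla, smul_eq_mul, ← add_assoc, two_vec h2, zero_add,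
        ← mul_assoc]
    · have := (h.mul h2 hA (h.conj (htb c hc).1 (htb c hc).2)).add_u h2 hA (c * t * lb / la)
      refine hsub this ?_
      rw [tv_apply, map_smul, LinearMap.smul_apply, hC x b, ← hlb, smul_eq_mul, ← add_assoc, two_vec h2, zero_add,
        hu, smul_add, smul_smul, smul_smul, div_mul_cancel₀ _ hax]
      rw [show c * t * lb / la * lb = c * t * la * (ρ * ρ) by rw [hlb']; field_simp,
        show c * (t * lb) = c * t * lb by ring]
      linear_combination (norm := module) two_vec h2 ((c * t * lb) • b)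
  have hmoveX : ∀ {t : F}, (∃ α, HasPar M u (t • a) α) → ∃ α, HasPar M u ((t * la) • x) α := by
    rintro t ⟨α, h⟩
    refine hsub (h.mul h2 hA (h.conj hx htx)) ?_
    rw [tv_apply, map_smul, LinearMap.smul_apply, ← hla, smul_eq_mul, ← add_assoc, two_vec h2, zero_add, one_mul]
  -- the multipliers form the whole field
  let Nx : Set F := {t | ∃ α, HasPar M u (t • x) α}
  let R : Subring F :=
    { carrier := {k | ∀ t ∈ Nx, k * t ∈ Nx}
      one_mem' := fun t ht => by rwa [one_mul]
      zero_mem' := fun t _ => by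
        show ∃ α, HasPar M u ((0 * t) • x) α
        rw [zero_mul, zero_smul]
        exact ⟨0, by simp, 1, one_mem _, fun z => by simp [par]⟩
      add_mem' := fun {k l} hk hl t ht => by
        show ∃ α, HasPar M u (((k + l) * t) • x) α
        rw [add_mul, add_smul]
        exact hadd (hk t ht) (hl t ht)
      mul_mem' := fun {k l} hk hl t ht => by rw [mul_assoc]; exact hk _ (hl t ht)
      neg_mem' := fun {k} hk t ht => by
        rw [show -k = k by linear_combination -k * h2]
        exact hk t ht }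
  have hR1 : ∀ c ∈ F₀, la * la * c ∈ R ∧ la * la * c * (ρ * ρ) ∈ R := by
    intro c hc
    constructor
    · intro t ht
      show ∃ α, HasPar M u ((la * la * c * t) • x) α
      rw [show la * la * c * t = c * t * la * la by ring]
      exact hmoveX (hmoveA ht c hc).1
    · intro t ht
      show ∃ α, HasPar M u ((la * la * c * (ρ * ρ) * t) • x) α
      rw [show la * la * c * (ρ * ρ) * t = c * t * la * (ρ * ρ) * la by ring]
      exact hmoveX (hmoveA ht c hc).2
  have hinv : (la * la)⁻¹ ∈ finiteSubfield R := inv_mem (show la * la ∈ R by simpa using (hR1 1 (one_mem _)).1)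
  have hla2 : la * la ≠ 0 := mul_ne_zero hax hax
  have hF0 : ∀ c ∈ F₀, c ∈ R := fun c hc => by
    have := mul_mem (show (la * la)⁻¹ ∈ R from hinv) (hR1 c hc).1
    rwa [← mul_assoc, inv_mul_cancel₀ hla2, one_mul] at this
  have hρ2 : ρ * ρ ∈ R := by
    have := mul_mem (show (la * la)⁻¹ ∈ R from hinv) (hR1 1 (one_mem _)).2
    rwa [mul_one, ← mul_assoc, inv_mul_cancel₀ hla2, one_mul] at this
  have hρ0 : ρ * ρ ∉ F₀ := sq_not_mem h2 hirr
  have hall : ∀ t : F, ∃ α, HasPar M u (t • x) α := fun t => by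
    have := eq_top_of_prime_degree hr hcard R hF0 hρ2 hρ0 t 1 ⟨1, by rwa [one_smul]⟩
    simpa [Nx] using this
  -- every coefficient
  intro ν
  have hρ20 : ρ * ρ ≠ 0 := fun h => hρ0 (h ▸ zero_mem _)
  have hne : 1 + (ρ * ρ)⁻¹ ≠ 0 := fun h => hρ0 (by
    have h1 : ρ * ρ = 1 := by
      have h3 := congrArg (· * (ρ * ρ)) h
      simp only [add_mul, one_mul, inv_mul_cancel₀ hρ20, zero_mul] at h3
      linear_combination h3 - h2
    rw [h1]; exact one_mem _)
  obtain ⟨s, hs⟩ := exists_sq h2 (ν / (1 + (ρ * ρ)⁻¹))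
  -- parameters along `s • a`, computed in two ways
  have e1 : HasPar M u (s • a) (s * s) := by
    obtain ⟨α, hα⟩ := hall (s / la)
    have := hα.mul h2 hA (hα.conj (hta 1 (one_mem _)).1 (hta 1 (one_mem _)).2)
    convert this using 1
    · rw [tv_apply, map_smul, LinearMap.smul_apply, hC x a, ← hla, smul_eq_mul, one_mul, div_mul_cancel₀ _ hax,
        ← add_assoc, two_vec h2, zero_add]
    · simp only [two_fld h2, zero_add, tv_apply, map_add, map_smul, LinearMap.add_apply, LinearMap.smul_apply,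
        hA x, hC x a, ← hla, smul_eq_mul, mul_zero, one_mul]
      field_simp
  have e2 : HasPar M u (s • a) (s * s / (ρ * ρ)) := by
    obtain ⟨α, hα⟩ := hall (s / (la * (ρ * ρ)))
    have := (hα.mul h2 hA (hα.conj (htb 1 (one_mem _)).1 (htb 1 (one_mem _)).2)).add_u h2 hA
      (s / (la * (ρ * ρ)) * lb / la)
    have hρn : ρ ≠ 0 := left_ne_zero_of_mul hρ20
    convert this using 1
    · rw [tv_apply, map_smul, LinearMap.smul_apply, hC x b, ← hlb, smul_eq_mul, one_mul, ← add_assoc, two_vec h2,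
        zero_add, hu, smul_add, smul_smul, smul_smul, div_mul_cancel₀ _ hax]
      rw [show s / (la * (ρ * ρ)) * lb / la * lb = s by rw [hlb']; field_simp]
      linear_combination (norm := module) -(two_vec h2 ((s / (la * (ρ * ρ)) * lb) • b))
    · simp only [two_fld h2, zero_add, tv_apply, map_add, map_smul, LinearMap.add_apply, LinearMap.smul_apply,
        hA x, hC x b, ← hlb, smul_eq_mul, mul_zero, one_mul]
      rw [hlb']
      field_simp
  have h0 := (e1.mul h2 hA e2)
  rw [two_vec h2, hA (s • a), add_zero] at h0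
  have h1 := HasPar.isAxis hA h0
  convert h1 using 2
  rw [hs, div_eq_mul_inv _ (ρ * ρ), ← mul_one_add, div_mul_cancel₀ _ hne]

/-- Every vector is an axis. -/
theorem symp_top (hM : RatTV hR M) (h2 : (2 : F) = 0) (hdim : 3 ≤ finrank F₀ V₀) {r : ℕ} (hr : r.Prime)
    (hcard : Fintype.card F = Nat.card F₀ ^ r) {g : isomGroup B} (hg : g ∈ M)
    (hnot : ¬ ∃ s : F, s ≠ 0 ∧ ∀ f ∈ V₀, s • g.1 f ∈ V₀) : M = ⊤ := by
  have hA := hR.isAlt
  have hC : ∀ s t : V, B s t = B t s := fun s t => by
    rw [alt_swap hA]; linear_combination -(B t s) * h2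
  obtain ⟨f, hf, hgf⟩ : ∃ f ∈ V₀, g.1 f ∉ V₀ := by
    by_contra hc
    push Not at hc
    exact hnot ⟨1, one_ne_zero, fun f hf => by rw [one_smul]; exact hc f hf⟩
  set w := g.1 f with hw
  have hwM : tv hA w 1 ∈ M := by
    rw [hw, ← conj_tv]; exact mul_mem (mul_mem hg (hM f hf 1 (one_mem _))) (inv_mem hg)
  -- an irrational pair for some axis vector
  obtain ⟨x, hx, p, hp, q, hq, hpx, hirr⟩ : ∃ x, tv hA x 1 ∈ M ∧ ∃ p ∈ V₀, ∃ q ∈ V₀,
      B p x ≠ 0 ∧ B q x / B p x ∉ F₀ := by
    by_cases hw1 : ∃ p ∈ V₀, ∃ q ∈ V₀, B p w ≠ 0 ∧ B q w / B p w ∉ F₀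
    · exact ⟨w, hwM, hw1⟩
    push Not at hw1
    obtain ⟨p, hp, hpw⟩ : ∃ p ∈ V₀, B p w ≠ 0 := by
      by_contra hn
      push Not at hn
      exact hgf (by rw [hR.sep hn]; exact zero_mem _)
    set lam := B p w with hlam
    set e := lam⁻¹ • w with he
    have hee : e ∈ V₀ := hR.mem_of_pairing fun y hy => by
      rw [he, map_smul, smul_eq_mul, mul_comm, ← div_eq_mul_inv]
      exact hw1 p hp y hy hpw
    have hwe : w = lam • e := by rw [he, smul_smul, mul_inv_cancel₀ hpw, one_smul]
    have hlam0 : lam ∉ F₀ := fun h => hgf (hwe ▸ smul_mem' h hee)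
    have hpe : B p e = 1 := by rw [he, map_smul, smul_eq_mul, ← hlam, inv_mul_cancel₀ hpw]
    refine ⟨p + (lam * lam) • e, ?_, e, hee, p, hp, ?_, ?_⟩
    · have h1 := mul_mem (mul_mem hwM (hM p hp 1 (one_mem _))) (inv_mem hwM)
      rw [conj_tv] at h1
      convert h1 using 2
      rw [tv_apply, ← hlam, one_mul, he, smul_smul, mul_inv_cancel_right₀ hpw]
    · simp [hA e, hC e p, hpe]
    · simpa [hA e, hA p, hC e p, hpe] using sq_not_mem h2 hlam0
  obtain ⟨a, ha, b, hb, hab, hax, hirr'⟩ := exists_perp_pair hR h2 hdim hp hq hpx hirr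
  have hu := isAxis_of_pair hM h2 hr hcard hx ha hb hab hax hirr'
  set u := B b x • a + B a x • b with hudef
  have hu0 : u ≠ 0 := fun h0 => by
    obtain ⟨z, hz⟩ : ∃ z : V₀, B (z : V) b ≠ 0 := by
      by_contra hn
      push Not at hn
      refine hirr' ?_
      rw [hR.sep (x := b) fun y hy => hn ⟨y, hy⟩]
      simp
    have h1 := congrArg (B (z : V)) h0
    simp only [hudef, map_add, map_smul, map_zero, smul_eq_mul] at h1
    by_cases hza : B (z : V) a = 0
    · rw [hza, mul_zero, zero_add] at h1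
      exact hz ((mul_eq_zero.1 h1).resolve_left hax)
    refine hirr' ?_
    rw [show B b x / B a x = B (z : V) b / B (z : V) a by
      rw [div_eq_div_iff hax hza]; linear_combination h1 - B (z : V) b * B a x * h2]
    exact div_mem (hR.form _ z.2 _ hb) (hR.form _ z.2 _ ha)
  -- a rational axis
  obtain ⟨e, he, heu⟩ : ∃ e ∈ V₀, B e u ≠ 0 := by
    by_contra hn
    push Not at hn
    exact hu0 (hR.sep hn)
  have hue : B u e ≠ 0 := by rwa [hC]
  have he' : IsAxis hA M e := by
    have h1 := hu.map (hM e he 1 (one_mem _))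
    rw [tv_apply, one_mul] at h1
    have h3 := hu.add h1 (by simp [hA u, hC u e, heu, hue]) 1
    rw [one_smul, add_comm u (B u e • e), add_assoc, two_vec h2, add_zero] at h3
    have h4 := h3.smul (B u e)⁻¹
    rwa [smul_smul, inv_mul_cancel₀ hue, one_smul] at h4
  -- all rational vectors
  have hstep : ∀ y ∈ V₀, ∀ z ∈ V₀, IsAxis hA M y → B y z ≠ 0 → IsAxis hA M z := by
    intro y hy z hz hay hyz
    have h1 := hay.map (hM (z - y) (sub_mem hz hy) (B y z)⁻¹ (inv_mem (hR.form _ hy _ hz)))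
    rwa [tv_move hA y z hyz] at h1
  have hrat : ∀ z ∈ V₀, IsAxis hA M z := by
    intro z hz
    by_cases hz0 : z = 0
    · rw [hz0]; intro c
      rw [show tv hA (0 : V) c = 1 from Subtype.ext (LinearEquiv.ext fun x => by simp)]
      exact M.one_mem
    by_cases hez : B e z = 0
    · obtain ⟨m, hm, hem, hzm⟩ : ∃ m ∈ V₀, B e m ≠ 0 ∧ B z m ≠ 0 := by
        obtain ⟨m₂, hm₂, hm₂'⟩ : ∃ m ∈ V₀, B z m ≠ 0 := by
          by_contra hn
          push Not at hn
          exact hz0 (hR.sep fun y hy => by rw [hC]; exact hn y hy)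
        obtain ⟨m₁, hm₁, hm₁'⟩ : ∃ m ∈ V₀, B e m ≠ 0 := by
          by_contra hn
          push Not at hn
          exact heu (by rw [hR.sep (x := e) fun y hy => by rw [hC]; exact hn y hy]; simp)
        by_cases h1 : B z m₁ = 0
        · by_cases h3 : B e m₂ = 0
          · exact ⟨m₁ + m₂, add_mem hm₁ hm₂, by simp [h3, hm₁'], by simp [h1, hm₂']⟩
          · exact ⟨m₂, hm₂, h3, hm₂'⟩
        · exact ⟨m₁, hm₁, hm₁', h1⟩
      exact hstep m hm z hz (hstep e he m hm he' hem) (by rwa [hC])
    · exact hstep e he z hz he' hez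
  -- all vectors
  have hgen : ∀ v : V, ∀ t : F, ∀ y, IsAxis hA M y → IsAxis hA M (y + t • v) := by
    intro v
    have hv : v ∈ Submodule.span F (V₀ : Set V) := by rw [hR.spans]; exact Submodule.mem_top
    induction hv using Submodule.span_induction with
    | mem v hv =>
      intro t y hy
      by_cases hyv : B y v = 0
      swap
      · exact (hrat v hv).smul 1 |>.add hy (by simpa using hyv) t |> fun h => by simpa using h
      by_cases hdep : ∃ μ : F, y = μ • v
      · obtain ⟨μ, rfl⟩ := hdep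
        rw [← add_smul]
        exact (hrat v hv).smul _
      obtain ⟨z, hz, hvz, hyz⟩ : ∃ z ∈ V₀, B v z = 0 ∧ B y z ≠ 0 := by
        by_contra hn
        push Not at hn
        refine hdep ?_
        obtain ⟨m, hm, hvm⟩ : ∃ m ∈ V₀, B v m ≠ 0 := by
          by_contra hn'
          push Not at hn'
          refine hdep ⟨0, ?_⟩
          rw [zero_smul]
          exact hR.sep fun s hs => by rw [hC]; exact hn s hs (hn' s hs)
        refine ⟨B y m / B v m, sub_eq_zero.1 (hR.sep fun s hs => ?_)⟩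
        have hs' := hn (s - (B v s / B v m) • m)
          (sub_mem hs (smul_mem' (div_mem (hR.form _ hv _ hs) (hR.form _ hv _ hm)) hm))
          (by rw [map_sub, map_smul, smul_eq_mul, div_mul_cancel₀ _ hvm, sub_self])
        rw [map_sub, map_smul, smul_eq_mul, sub_eq_zero] at hs'
        rw [map_sub, map_smul, smul_eq_mul, hC s y, hC s v, hs']
        field_simp
        ring
      have hvz' : (v - z) ∈ V₀ := sub_mem hv hz
      have h1 := (hrat z hz).add hy hyz t
      have h3 := (hrat _ hvz').add h1 (by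
        simp only [map_add, map_sub, map_smul, LinearMap.add_apply, LinearMap.smul_apply, hyv, hA z, hC z v, hvz,
          smul_eq_mul, mul_zero, sub_zero, add_zero, zero_sub, neg_ne_zero]
        exact hyz) t
      rwa [add_assoc, ← smul_add, add_sub_cancel] at h3
    | zero => intro t y hy; rwa [smul_zero, add_zero]
    | add a b _ _ ha hb => intro t y hy; rw [smul_add, ← add_assoc]; exact hb t _ (ha t y hy)
    | smul c a _ ha => intro t y hy; rw [smul_smul]; exact ha _ y hy
  refine eq_top_of_isAxis hA hR.nondeg fun v => ?_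
  have := hgen v 1 0 (hrat 0 (zero_mem _))
  rwa [zero_add, one_smul] at this

end CfsgLib.Classical.SpFourEven
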